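import Cfsg.Agent.Lib.SporadicOut.Auto

/-!
Label automorphisms: the candidates found by a search may lie outside the group, in the group of
permutations preserving the orbital labels.
-/

set_option autoImplicit false

namespace CfsgLib.SporadicOut

open CfsgLib.SporRecognition.CosetCert

variable {n : Nat}

/-- The permutations preserving labels of pairs. -/
def labAut (n : Nat) (L : Nat → Nat → Nat) : Subgroup (Equiv.Perm (Fin n)) where
  carrier := {p | ∀ x y : Fin n, L (p x : Fin n) (p y : Fin n) = L x y}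
  one_mem' := fun _ _ => rfl
  mul_mem' := fun {a b} ha hb x y => by
    rw [Equiv.Perm.mul_apply, Equiv.Perm.mul_apply, ha, hb]
  inv_mem' := fun {a} ha x y => by
    conv_rhs => rw [← Equiv.apply_symm_apply a x, ← Equiv.apply_symm_apply a y, ha]
    rfl

theorem mem_labAut {L : Nat → Nat → Nat} {p : Equiv.Perm (Fin n)} :
    p ∈ labAut n L ↔ ∀ x y : Fin n, L (p x : Fin n) (p y : Fin n) = L x y := Iff.rfl

/-- A permutation fixing `0`, preserving suborbit labels and normalising the group preserves the
labels of pairs. -/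
theorem mem_labAut_of_normalizes [NeZero n] {Q : Subgroup (Equiv.Perm (Fin n))}
    {step : Nat → Nat → Nat}
    (h : ∀ j, ∃ q ∈ Q, ∀ u : Fin n, ((q u : Fin n) : Nat) = step j u) (par lab : Nat → Nat)
    (fuel d : Nat)
    (hdown : allBelow d n (fun x => Nat.beq (downX step par fuel x) 0) = true)
    (hlab : ∀ q ∈ Q, q 0 = 0 → ∀ u : Fin n, lab (q u : Fin n) = lab u)
    {o : Equiv.Perm (Fin n)} (ho : ∀ q ∈ Q, o * q * o⁻¹ ∈ Q) (ho0 : o 0 = 0)
    (holab : ∀ u : Fin n, lab (o u : Fin n) = lab u) :
    o ∈ labAut n (pairLab step par lab fuel) := by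
  intro x y
  obtain ⟨q, hq, hqx, hqy⟩ := exists_down h par fuel x
  obtain ⟨r, hr, hrx, hry⟩ := exists_down h par fuel (o x)
  have hq0 : q x = 0 := Fin.ext (by
    rw [hqx, Nat.eq_of_beq_eq_true (allBelow_spec hdown x x.2)]; rfl)
  have hr0 : r (o x) = 0 := Fin.ext (by
    rw [hrx, Nat.eq_of_beq_eq_true (allBelow_spec hdown _ (o x).2)]; rfl)
  set s := r * (o * q⁻¹ * o⁻¹) with hs
  have hsQ : s ∈ Q := mul_mem hr (ho _ (inv_mem hq))
  have happ : ∀ z, s (o (q z)) = r (o z) := fun z => by
    simp [hs, Equiv.Perm.mul_apply]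
  have hs0 : s 0 = 0 := by
    have := happ x
    rwa [hq0, ho0, hr0] at this
  show lab (downY step par fuel (o x : Fin n) (o y : Fin n)) = lab (downY step par fuel x y)
  rw [← hqy, ← hry, ← happ y, hlab s hsQ hs0, holab]

/-- Points determined by agreement on `S` through their keys. -/
noncomputable def uniqChk (d n : Nat) (key : Nat → Nat) (S : List Nat) : Bool :=
  S.all fun s => Nat.blt s n && allBelow d n fun u => bif Nat.beq (key u) (key s) then Nat.beq u s else true

/-- Two permutations preserving labels which intertwine and agree on some points are equal, the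
separating points being reached through uniquely labelled points. -/
theorem eq_of_agree_unique {L : Nat → Nat → Nat} {g h a a' : Equiv.Perm (Fin n)}
    (hgL : g ∈ labAut n L) (hhL : h ∈ labAut n L) {t : Nat → Nat}
    (ha : ∀ u : Fin n, ((a u : Fin n) : Nat) = t u) (hg : g * a = a' * g) (hh : h * a = a' * h)
    {S₁ S : List Nat} {key₁ key ord pos : Nat → Nat} {d : Nat}
    (hkey₁ : ∀ u, u < n → keyStep L S₁ key₁ u = true) (huniq : uniqChk d n key₁ S = true)
    (hkey : ∀ u, u < n → keyStep L S key u = true)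
    (hsep : allBelow d n (sepStep key ord pos n) = true) {qs : List (Nat × Nat)}
    (hcov : coverChk t qs S₁ = true)
    (hqs : ∀ q ∈ qs, ∃ x : Fin n, (x : Nat) = q.1 ∧ g x = h x) : g = h := by
  set v := h⁻¹ * g with hv
  have hvL : v ∈ labAut n L := mul_mem (inv_mem hhL) hgL
  have hva : v * a = a * v := by
    rw [hv, mul_assoc, hg, ← mul_assoc, ← mul_assoc]
    congr 1
    rw [inv_mul_eq_iff_eq_mul, ← mul_assoc, hh, mul_inv_cancel_right]
  have hcomm : ∀ x : Fin n, v x = x → v (a x) = a x := fun x hx => by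
    rw [← Equiv.Perm.mul_apply, hva, Equiv.Perm.mul_apply, hx]
  have horb : ∀ (k : Nat) (x : Fin n), v x = x →
      ∀ p ∈ orbitPairs t t k x x, ∃ z : Fin n, (z : Nat) = p.1 ∧ v z = z := by
    intro k
    induction k with
    | zero => intro x _ p hp; simp [orbitPairs] at hp
    | succ k ih =>
      intro x hx p hp
      change p ∈ ((x : Nat), (x : Nat)) :: orbitPairs t t k (t x) (t x) at hp
      rcases List.mem_cons.1 hp with rfl | hp
      · exact ⟨x, rfl, hx⟩
      · rw [← ha x] at hp
        exact ih _ (hcomm x hx) p hp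
  have hS₁ : ∀ s ∈ S₁, ∃ z : Fin n, (z : Nat) = s ∧ v z = z := by
    intro s hs
    simp only [coverChk, List.all_eq_true, List.any_eq_true] at hcov
    obtain ⟨q, hq, p, hp, hps⟩ := hcov s hs
    obtain ⟨x, hx, hxe⟩ := hqs q hq
    rw [← hx] at hp
    obtain ⟨z, hz, hze⟩ := horb q.2 x (by rw [hv, Equiv.Perm.mul_apply, hxe, Equiv.Perm.inv_def,
      Equiv.symm_apply_apply]) p hp
    exact ⟨z, hz.trans (Nat.eq_of_beq_eq_true hps), hze⟩
  have hkeq : ∀ (T : List Nat), (∀ s ∈ T, ∃ z : Fin n, (z : Nat) = s ∧ v z = z) → ∀ u : Fin n,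
      labKey L T (v u : Fin n) = labKey L T u := fun T hT u => labKey_congr fun s hs => by
    obtain ⟨z, rfl, hz⟩ := hT s hs
    conv_lhs => rw [← hz]
    exact mem_labAut.1 hvL z u
  have hS : ∀ s ∈ S, ∃ z : Fin n, (z : Nat) = s ∧ v z = z := by
    intro s hs
    simp only [uniqChk, List.all_eq_true, Bool.and_eq_true] at huniq
    obtain ⟨hlt, hu⟩ := huniq s hs
    have hlt' : s < n := by simpa [Nat.blt_eq] using hlt
    refine ⟨⟨s, hlt'⟩, rfl, Fin.ext ?_⟩
    have := allBelow_spec hu _ (v ⟨s, hlt'⟩).2
    rw [← Nat.eq_of_beq_eq_true (hkey₁ _ (v ⟨s, hlt'⟩).2), hkeq S₁ hS₁,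
      Nat.eq_of_beq_eq_true (hkey₁ _ hlt')] at this
    simpa using this
  have : v = 1 := Equiv.ext fun u => sep_spec hkey hsep (hkeq S hS u)
  exact (inv_mul_eq_one.1 this).symm

/-- The intertwiners are realised by the listed tables. -/
theorem exists_tab_of_search {L : Nat → Nat → Nat} {a a' : Equiv.Perm (Fin n)} {t t' : Nat → Nat}
    (ha : ∀ u : Fin n, ((a u : Fin n) : Nat) = t u) (ha' : ∀ u : Fin n, ((a' u : Fin n) : Nat) = t' u)
    {qs : List (Nat × Nat)} {leaves : List (List Nat)} {d : Nat}
    (hsearch : Staged d n L t t' [] [[]] qs leaves)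
    {S₁ S : List Nat} {key₁ key ord pos : Nat → Nat}
    (hkey₁ : ∀ u, u < n → keyStep L S₁ key₁ u = true) (huniq : uniqChk d n key₁ S = true)
    (hkey : ∀ u, u < n → keyStep L S key u = true)
    (hsep : allBelow d n (sepStep key ord pos n) = true) (hcov : coverChk t qs S₁ = true)
    {ths : List (Nat → Nat)} (hths : ∀ th ∈ ths, Realised (labAut n L) th)
    (hleaves : leaves = ths.map fun th => qs.map fun q => th q.1)
    (hcomm : (ths.all fun th => allBelow d n fun u => Nat.beq (th (t u)) (t' (th u))) = true)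
    {g : Equiv.Perm (Fin n)} (hgL : g ∈ labAut n L) (hg : g * a = a' * g) :
    ∃ th ∈ ths, ∀ u : Fin n, ((g u : Fin n) : Nat) = th u := by
  obtain ⟨l, hl, hys⟩ := staged_sound (ρ := MonoidHom.id (Equiv.Perm (Fin n))) (a := a) (a' := a')
    hgL ha ha' hg hsearch [] (by simp) rfl (by simp)
  rw [List.nil_append] at hys
  rw [hleaves, List.mem_map] at hl
  obtain ⟨th, hth, rfl⟩ := hl
  obtain ⟨h, hhL, hht⟩ := hths th hth
  rw [List.all_eq_true] at hcomm
  have hh : h * a = a' * h := Equiv.ext fun u => Fin.ext (by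
    rw [Equiv.Perm.mul_apply, Equiv.Perm.mul_apply, hht, ha, ha', hht]
    exact Nat.eq_of_beq_eq_true (allBelow_spec (hcomm th hth) u u.2))
  have : g = h := by
    refine eq_of_agree_unique hgL hhL ha hg hh hkey₁ huniq hkey hsep hcov fun q hq => ?_
    have hq' : (q, th q.1) ∈ qs.zip (qs.map fun q => th q.1) := by
      obtain ⟨i, hi, rfl⟩ := List.getElem_of_mem hq
      exact List.mem_iff_getElem.2 ⟨i, by simp [hi], by simp⟩
    obtain ⟨x, hx, hxe⟩ := hys _ hq'
    refine ⟨x, hx, Fin.ext ?_⟩
    rw [hht, hx]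
    exact hxe
  exact ⟨th, hth, fun u => this ▸ hht u⟩

theorem realised_getT {Q : Subgroup (Equiv.Perm (Fin n))} {ts : List (Nat → Nat)}
    (h : ∀ t ∈ ts, Realised Q t) (i : Nat) : Realised Q (getT ts i) := by
  by_cases hi : i < ts.length
  · rw [getT, List.getD_eq_getElem _ _ hi]; exact h _ (List.getElem_mem hi)
  · rw [getT, List.getD_eq_default _ _ (Nat.le_of_not_lt hi)]; exact ⟨1, one_mem _, fun u => rfl⟩

theorem getT_tabsChk {d : Nat} : ∀ {wts : List (List (Nat → Nat))} {tws : List (Nat → Nat)},
    tabsChk d n wts tws = true → wts.length = tws.length ∧ ∀ i, i < wts.length →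
      ∀ u, u < n → getT tws i u = trace (wts.getD i []) u
  | [], [], _ => ⟨rfl, fun i hi => absurd hi (Nat.not_lt_zero i)⟩
  | [], t :: tws, hc => by simp [tabsChk] at hc
  | w :: ws, [], hc => by simp [tabsChk] at hc
  | w :: ws, t :: tws, hc => by
    change (allBelow d n (fun u => Nat.beq (t u) (trace w u)) && tabsChk d n ws tws) = true at hc
    rw [Bool.and_eq_true] at hc
    obtain ⟨hl, hr⟩ := getT_tabsChk hc.2
    refine ⟨by simp [hl], fun i hi u hu => ?_⟩
    cases i with
    | zero => simpa [getT] using Nat.eq_of_beq_eq_true (allBelow_spec hc.1 u hu)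
    | succ i => simpa [getT] using hr i (by simpa using hi) u hu

/-- Tables obtained one from another by composing with generators are realised. -/
theorem realised_chain {Q : Subgroup (Equiv.Perm (Fin n))} {tl : List (Nat → Nat)}
    (htl : ∀ t ∈ tl, Realised Q t) {steps : List (Nat × Nat)} {wts : List (List (Nat → Nat))}
    {ths : List (Nat → Nat)} {d : Nat} (hchk : tabsChk d n wts ths = true)
    (hwts : wts = [] :: steps.map fun s => [getT tl s.2, getT ths s.1])
    (hle : (List.range steps.length).all (fun k => Nat.ble (steps.getD k (0, 0)).1 k) = true) :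
    ∀ th ∈ ths, Realised Q th := by
  obtain ⟨hlen, hget⟩ := getT_tabsChk hchk
  have hlen' : wts.length = steps.length + 1 := by rw [hwts]; simp
  have key : ∀ k, k < ths.length → Realised Q (getT ths k) := by
    intro k
    induction k using Nat.strongRecOn with
    | _ k ih =>
      intro hk
      cases k with
      | zero =>
        refine ⟨1, one_mem _, fun u => ?_⟩
        rw [hget 0 (by omega) u u.2, hwts]
        rfl
      | succ k =>
        have hks : k < steps.length := by omega
        rw [List.all_eq_true] at hle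
        have h1 : (steps.getD k (0, 0)).1 ≤ k := Nat.le_of_ble_eq_true (hle k (List.mem_range.2 hks))
        obtain ⟨q, hq, he⟩ := Realised.trace (Q := Q)
          (ts := [getT tl (steps.getD k (0, 0)).2, getT ths (steps.getD k (0, 0)).1]) (by
            intro t ht
            simp only [List.mem_cons, List.not_mem_nil, or_false] at ht
            rcases ht with rfl | rfl
            · exact realised_getT htl _
            · exact ih _ (by omega) (by omega))
        refine ⟨q, hq, fun u => ?_⟩
        rw [he, hget (k + 1) (by omega) u u.2, hwts, List.getD_cons_succ]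
        simp [List.getD_eq_getElem?_getD, hks]
  intro th hth
  obtain ⟨i, hi, rfl⟩ := List.getElem_of_mem hth
  have := key i hi
  rwa [getT, List.getD_eq_getElem _ _ hi] at this

/-- An odd involution lies outside the image of a simple group of order above two. -/
theorem notMem_range_of_odd {G : Type*} [Group G] [Finite G] (hs : IsSimpleGroup G)
    (hcard : 2 < Nat.card G) (ρ : G →* Equiv.Perm (Fin n)) {o : Equiv.Perm (Fin n)}
    (ho : o ^ 2 = 1) {f : Nat} (hf : Nat.card (Function.fixedPoints o) = f)
    (hodd : (n - f) / 2 % 2 = 1) : o ∉ ρ.range := by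
  rintro ⟨g, rfl⟩
  have hsign : Equiv.Perm.sign (ρ g) = -1 := by
    rw [Equiv.Perm.sign_of_pow_two_eq_one ho, Fintype.card_fin,
      ← Nat.card_eq_fintype_card, hf]
    exact (Odd.neg_one_pow (Nat.odd_iff.2 hodd))
  have hker : (Equiv.Perm.sign.comp ρ).ker = ⊤ := by
    refine (hs.eq_bot_or_eq_top_of_normal _ inferInstance).resolve_left fun hbot => ?_
    have hinj := (MonoidHom.ker_eq_bot_iff _).1 hbot
    have := Nat.card_le_card_of_injective _ hinj
    have h2 : Nat.card ℤˣ = 2 := by rw [Nat.card_eq_fintype_card]; rfl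
    omega
  have h1 : Equiv.Perm.sign (ρ g) = 1 := MonoidHom.mem_ker.1 (hker ▸ Subgroup.mem_top g :
    g ∈ (Equiv.Perm.sign.comp ρ).ker)
  rw [hsign] at h1
  exact absurd h1 (by decide)

end CfsgLib.SporadicOut
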