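import Cfsg.Agent.Lib.SporadicOut.Fi22Data
import Cfsg.Agent.Lib.SporadicOut.GraphAut

/-! Checks of the labels for the automorphisms of the Fischer group Fi22 on 3510 points. -/

set_option autoImplicit false
set_option maxRecDepth 20000
set_option linter.all false
set_option Elab.async false

namespace CfsgLib.SporadicOut.Fi22

open CfsgLib.SporRecognition.CosetCert
open CfsgLib.SporRecognition.Cert.Fi22U (T1 T2 T3 T4 T5 T6 T7 T8 T9 lab)

theorem down_ok_c0 : allPow 3510 (fun x => Nat.beq (downX stp par 9 x) 0) 10 0 = true := by decide +kernel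

theorem down_ok_c1 : allPow 3510 (fun x => Nat.beq (downX stp par 9 x) 0) 10 1024 = true := by decide +kernel

theorem down_ok_c2 : allPow 3510 (fun x => Nat.beq (downX stp par 9 x) 0) 10 2048 = true := by decide +kernel

theorem down_ok_c3 : allPow 3510 (fun x => Nat.beq (downX stp par 9 x) 0) 10 3072 = true := by decide +kernel

theorem down_ok : allBelow 12 3510 (fun x => Nat.beq (downX stp par 9 x) 0) = true :=
  allBelow_of_upto (hi := 4096)
    (Upto.trans (mid := 1024) ((Upto.of_pow down_ok_c0 (Nat.le_refl _)) : Upto _ _ 0 (0 + 2 ^ 10))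
    (Upto.trans (mid := 2048) ((Upto.of_pow down_ok_c1 (Nat.le_refl _)) : Upto _ _ 1024 (1024 + 2 ^ 10))
    (Upto.trans (mid := 3072) ((Upto.of_pow down_ok_c2 (Nat.le_refl _)) : Upto _ _ 2048 (2048 + 2 ^ 10))
    ((Upto.of_pow down_ok_c3 (Nat.le_refl _)) : Upto _ _ 3072 (3072 + 2 ^ 10)))))
    (by decide) (by decide)

theorem key1A_all_c0 : allPow 3510 (keyStep lbl fstA key1A) 10 0 = true := by decide +kernel

theorem key1A_all_c1 : allPow 3510 (keyStep lbl fstA key1A) 10 1024 = true := by decide +kernel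

theorem key1A_all_c2 : allPow 3510 (keyStep lbl fstA key1A) 10 2048 = true := by decide +kernel

theorem key1A_all_c3 : allPow 3510 (keyStep lbl fstA key1A) 10 3072 = true := by decide +kernel

theorem key1A_all : allBelow 12 3510 (keyStep lbl fstA key1A) = true :=
  allBelow_of_upto (hi := 4096)
    (Upto.trans (mid := 1024) ((Upto.of_pow key1A_all_c0 (Nat.le_refl _)) : Upto _ _ 0 (0 + 2 ^ 10))
    (Upto.trans (mid := 2048) ((Upto.of_pow key1A_all_c1 (Nat.le_refl _)) : Upto _ _ 1024 (1024 + 2 ^ 10))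
    (Upto.trans (mid := 3072) ((Upto.of_pow key1A_all_c2 (Nat.le_refl _)) : Upto _ _ 2048 (2048 + 2 ^ 10))
    ((Upto.of_pow key1A_all_c3 (Nat.le_refl _)) : Upto _ _ 3072 (3072 + 2 ^ 10)))))
    (by decide) (by decide)

theorem key1A_ok : ∀ u, u < 3510 → keyStep lbl fstA key1A u = true := allBelow_spec key1A_all

theorem keyA_all_c0 : allPow 3510 (keyStep lbl sepA keyA) 10 0 = true := by decide +kernel

theorem keyA_all_c1 : allPow 3510 (keyStep lbl sepA keyA) 10 1024 = true := by decide +kernel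

theorem keyA_all_c2 : allPow 3510 (keyStep lbl sepA keyA) 10 2048 = true := by decide +kernel

theorem keyA_all_c3 : allPow 3510 (keyStep lbl sepA keyA) 10 3072 = true := by decide +kernel

theorem keyA_all : allBelow 12 3510 (keyStep lbl sepA keyA) = true :=
  allBelow_of_upto (hi := 4096)
    (Upto.trans (mid := 1024) ((Upto.of_pow keyA_all_c0 (Nat.le_refl _)) : Upto _ _ 0 (0 + 2 ^ 10))
    (Upto.trans (mid := 2048) ((Upto.of_pow keyA_all_c1 (Nat.le_refl _)) : Upto _ _ 1024 (1024 + 2 ^ 10))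
    (Upto.trans (mid := 3072) ((Upto.of_pow keyA_all_c2 (Nat.le_refl _)) : Upto _ _ 2048 (2048 + 2 ^ 10))
    ((Upto.of_pow keyA_all_c3 (Nat.le_refl _)) : Upto _ _ 3072 (3072 + 2 ^ 10)))))
    (by decide) (by decide)

theorem keyA_ok : ∀ u, u < 3510 → keyStep lbl sepA keyA u = true := allBelow_spec keyA_all

theorem sepA_ok_c0 : allPow 3510 (sepStep keyA ordA posA 3510) 10 0 = true := by decide +kernel

theorem sepA_ok_c1 : allPow 3510 (sepStep keyA ordA posA 3510) 10 1024 = true := by decide +kernel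

theorem sepA_ok_c2 : allPow 3510 (sepStep keyA ordA posA 3510) 10 2048 = true := by decide +kernel

theorem sepA_ok_c3 : allPow 3510 (sepStep keyA ordA posA 3510) 10 3072 = true := by decide +kernel

theorem sepA_ok : allBelow 12 3510 (sepStep keyA ordA posA 3510) = true :=
  allBelow_of_upto (hi := 4096)
    (Upto.trans (mid := 1024) ((Upto.of_pow sepA_ok_c0 (Nat.le_refl _)) : Upto _ _ 0 (0 + 2 ^ 10))
    (Upto.trans (mid := 2048) ((Upto.of_pow sepA_ok_c1 (Nat.le_refl _)) : Upto _ _ 1024 (1024 + 2 ^ 10))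
    (Upto.trans (mid := 3072) ((Upto.of_pow sepA_ok_c2 (Nat.le_refl _)) : Upto _ _ 2048 (2048 + 2 ^ 10))
    ((Upto.of_pow sepA_ok_c3 (Nat.le_refl _)) : Upto _ _ 3072 (3072 + 2 ^ 10)))))
    (by decide) (by decide)

theorem uniqA : uniqChk 12 3510 key1A sepA = true := by decide +kernel

theorem coverA : coverChk tA qsA fstA = true := by decide +kernel

theorem key1B_all_c0 : allPow 3510 (keyStep lbl fstB key1B) 10 0 = true := by decide +kernel

theorem key1B_all_c1 : allPow 3510 (keyStep lbl fstB key1B) 10 1024 = true := by decide +kernel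

theorem key1B_all_c2 : allPow 3510 (keyStep lbl fstB key1B) 10 2048 = true := by decide +kernel

theorem key1B_all_c3 : allPow 3510 (keyStep lbl fstB key1B) 10 3072 = true := by decide +kernel

theorem key1B_all : allBelow 12 3510 (keyStep lbl fstB key1B) = true :=
  allBelow_of_upto (hi := 4096)
    (Upto.trans (mid := 1024) ((Upto.of_pow key1B_all_c0 (Nat.le_refl _)) : Upto _ _ 0 (0 + 2 ^ 10))
    (Upto.trans (mid := 2048) ((Upto.of_pow key1B_all_c1 (Nat.le_refl _)) : Upto _ _ 1024 (1024 + 2 ^ 10))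
    (Upto.trans (mid := 3072) ((Upto.of_pow key1B_all_c2 (Nat.le_refl _)) : Upto _ _ 2048 (2048 + 2 ^ 10))
    ((Upto.of_pow key1B_all_c3 (Nat.le_refl _)) : Upto _ _ 3072 (3072 + 2 ^ 10)))))
    (by decide) (by decide)

theorem key1B_ok : ∀ u, u < 3510 → keyStep lbl fstB key1B u = true := allBelow_spec key1B_all

theorem keyB_all_c0 : allPow 3510 (keyStep lbl sepB keyB) 10 0 = true := by decide +kernel

theorem keyB_all_c1 : allPow 3510 (keyStep lbl sepB keyB) 10 1024 = true := by decide +kernel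

theorem keyB_all_c2 : allPow 3510 (keyStep lbl sepB keyB) 10 2048 = true := by decide +kernel

theorem keyB_all_c3 : allPow 3510 (keyStep lbl sepB keyB) 10 3072 = true := by decide +kernel

theorem keyB_all : allBelow 12 3510 (keyStep lbl sepB keyB) = true :=
  allBelow_of_upto (hi := 4096)
    (Upto.trans (mid := 1024) ((Upto.of_pow keyB_all_c0 (Nat.le_refl _)) : Upto _ _ 0 (0 + 2 ^ 10))
    (Upto.trans (mid := 2048) ((Upto.of_pow keyB_all_c1 (Nat.le_refl _)) : Upto _ _ 1024 (1024 + 2 ^ 10))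
    (Upto.trans (mid := 3072) ((Upto.of_pow keyB_all_c2 (Nat.le_refl _)) : Upto _ _ 2048 (2048 + 2 ^ 10))
    ((Upto.of_pow keyB_all_c3 (Nat.le_refl _)) : Upto _ _ 3072 (3072 + 2 ^ 10)))))
    (by decide) (by decide)

theorem keyB_ok : ∀ u, u < 3510 → keyStep lbl sepB keyB u = true := allBelow_spec keyB_all

theorem sepB_ok_c0 : allPow 3510 (sepStep keyB ordB posB 3510) 10 0 = true := by decide +kernel

theorem sepB_ok_c1 : allPow 3510 (sepStep keyB ordB posB 3510) 10 1024 = true := by decide +kernel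

theorem sepB_ok_c2 : allPow 3510 (sepStep keyB ordB posB 3510) 10 2048 = true := by decide +kernel

theorem sepB_ok_c3 : allPow 3510 (sepStep keyB ordB posB 3510) 10 3072 = true := by decide +kernel

theorem sepB_ok : allBelow 12 3510 (sepStep keyB ordB posB 3510) = true :=
  allBelow_of_upto (hi := 4096)
    (Upto.trans (mid := 1024) ((Upto.of_pow sepB_ok_c0 (Nat.le_refl _)) : Upto _ _ 0 (0 + 2 ^ 10))
    (Upto.trans (mid := 2048) ((Upto.of_pow sepB_ok_c1 (Nat.le_refl _)) : Upto _ _ 1024 (1024 + 2 ^ 10))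
    (Upto.trans (mid := 3072) ((Upto.of_pow sepB_ok_c2 (Nat.le_refl _)) : Upto _ _ 2048 (2048 + 2 ^ 10))
    ((Upto.of_pow sepB_ok_c3 (Nat.le_refl _)) : Upto _ _ 3072 (3072 + 2 ^ 10)))))
    (by decide) (by decide)

theorem uniqB : uniqChk 12 3510 key1B sepB = true := by decide +kernel

theorem coverB : coverChk tB qsB fstB = true := by decide +kernel


end CfsgLib.SporadicOut.Fi22
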