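import Cfsg.Agent.Lib.SporadicOut.Fi22Data

/-! Checks of the relations for the automorphisms of the Fischer group Fi22 on 3510 points. -/

set_option autoImplicit false
set_option maxRecDepth 20000
set_option linter.all false
set_option Elab.async false

namespace CfsgLib.SporadicOut.Fi22

open CfsgLib.SporRecognition.CosetCert
open CfsgLib.SporRecognition.Cert.Fi22U (T1 T2 T3 T4 T5 T6 T7 T8 T9 lab)

theorem rels_break : ((List.range 431).all fun k => !Nat.beq
    (trace (wTabs [tA, tAi, tB, tBi, fun u => tX (trace ((centW.getD (Nat.add k 1) []).map (getT cgTs)) u)] (relW.getD (brk.getD k (0, 0)).1 [])) (brk.getD k (0, 0)).2)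
    (brk.getD k (0, 0)).2) = true := by decide +kernel

theorem brk_lt : (brk.all fun p => Nat.blt p.2 3510 && Nat.blt p.1 4) = true := by decide +kernel


end CfsgLib.SporadicOut.Fi22
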