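import Cfsg.Agent.Lib.SporadicOut.Fi22Data

/-! Checks of the tables for the automorphisms of the Fischer group Fi22 on 3510 points. -/

set_option autoImplicit false
set_option maxRecDepth 20000
set_option linter.all false
set_option Elab.async false

namespace CfsgLib.SporadicOut.Fi22

open CfsgLib.SporRecognition.CosetCert
open CfsgLib.SporRecognition.Cert.Fi22U (T1 T2 T3 T4 T5 T6 T7 T8 T9 lab)

theorem leavesA_eq : (leavesA == powA.map fun th => qsA.map fun q => th q.1) = true := by decide +kernel

theorem leavesB_eq : (leavesB == centB.map fun th => qsB.map fun q => th q.1) = true := by decide +kernel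

theorem tabExt : tabsChk 12 3510 tExt [tE0, tE1, tE2, tE3, tE4, tE5, tE6] = true := by decide +kernel

theorem tabABX : tabsChk 12 3510 tABX [tA, tB, tX] = true := by decide +kernel

theorem tabA2X2 : tabsChk 12 3510 tA2X2 [tA2, tX2] = true := by decide +kernel

theorem tabCg : tabsChk 12 3510 tCg [tG1, tG2] = true := by decide +kernel

theorem invA : allBelow 12 3510 (invStep tA tAi 3510) = true := by decide +kernel

theorem invB : allBelow 12 3510 (invStep tB tBi 3510) = true := by decide +kernel

theorem invA2 : allBelow 12 3510 (invStep tA2 tA2i 3510) = true := by decide +kernel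

theorem invO1 : allBelow 12 3510 (invStep tO1 tO1i 3510) = true := by decide +kernel

theorem invO1i : allBelow 12 3510 (invStep tO1i tO1 3510) = true := by decide +kernel

theorem invO0 : allBelow 12 3510 (invStep tO0 tO0 3510) = true := by decide +kernel

theorem a_pow : allBelow 12 3510 (fun u => Nat.beq (iter tA 13 u) u) = true := by decide +kernel

theorem b_conj : allBelow 12 3510 (fun u => Nat.beq (tB (tA u)) (tA (tA (tA (tA (tB u)))))) = true := by decide +kernel

theorem x_conj : allBelow 12 3510 (fun u => Nat.beq (tX (tB u)) (tBi (tX u))) = true := by decide +kernel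

theorem o_b : allBelow 12 3510 (fun u => Nat.beq (tO1 (tB u)) (tB (tO1 u))) = true := by decide +kernel

theorem g1_b : allBelow 12 3510 (fun u => Nat.beq (tG1 (tB u)) (tB (tG1 u))) = true := by decide +kernel

theorem g2_b : allBelow 12 3510 (fun u => Nat.beq (tG2 (tB u)) (tB (tG2 u))) = true := by decide +kernel

theorem o_gen : ((List.range 9).all fun i => allBelow 12 3510 fun u => Nat.beq (tO1 (getT gts i u)) (getT imgTs i (tO1 u))) = true := by decide +kernel

theorem o0_eq : allBelow 12 3510 (fun u => Nat.beq (tO0 u) (trace (tO1 :: tQ) u)) = true := by decide +kernel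

theorem o0_lab : allBelow 12 3510 (fun u => Nat.beq (lab (tO0 u)) (lab u)) = true := by decide +kernel

theorem o0_zero : Nat.beq (tO0 0) 0 = true := by decide +kernel

theorem o0_fix : Nat.beq (countLab 12 3510 (fun u => bif Nat.beq (tO0 u) u then 1 else 0) 1) 64 = true := by decide +kernel

theorem img_inv : (imgTs.all fun t => allBelow 12 3510 (invStep t t 3510)) = true := by decide +kernel


end CfsgLib.SporadicOut.Fi22
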