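import Cfsg.Agent.Lib.SporadicOut.Fi22Data

/-! Checks of the words for the automorphisms of the Fischer group Fi22 on 3510 points. -/

set_option autoImplicit false
set_option maxRecDepth 20000
set_option linter.all false
set_option Elab.async false

namespace CfsgLib.SporadicOut.Fi22

open CfsgLib.SporRecognition.CosetCert
open CfsgLib.SporRecognition.Cert.Fi22U (T1 T2 T3 T4 T5 T6 T7 T8 T9 lab)

theorem tabGen : tabsChk 12 3510 tGen gts = true := by decide +kernel

theorem tabImg : tabsChk 12 3510 tImg imgTs = true := by decide +kernel

theorem tabPow : tabsChk 12 3510 tPow powA = true := by decide +kernel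

theorem tabRel : tabsChk 12 3510 tRel (List.replicate 4 fun u => u) = true := by decide +kernel

theorem tabImgAB : tabsChk 12 3510 tImgAB [tA2, tB] = true := by decide +kernel

theorem powA_comm : (powA.all fun t => allBelow 12 3510 fun u => Nat.beq (t (tA u)) (tA (t u))) = true := by decide +kernel


end CfsgLib.SporadicOut.Fi22
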