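import Cfsg.Agent.Lib.SporadicOut.Fi22SearchA0

/-! A search for the automorphisms of the Fischer group Fi22 on 3510 points. -/

set_option autoImplicit false
set_option maxRecDepth 20000
set_option linter.all false
set_option Elab.async false

namespace CfsgLib.SporadicOut.Fi22

open CfsgLib.SporRecognition.CosetCert
open CfsgLib.SporRecognition.Cert.Fi22U (T1 T2 T3 T4 T5 T6 T7 T8 T9 lab)

theorem searchA : Staged 12 3510 lbl tA tA [] [[]] qsA leavesA := .next (by decide) (List.forall_mem_cons.mpr ⟨nodeA_0_0, (fun _ h => absurd h List.not_mem_nil)⟩) (.next (by decide) (List.forall_mem_cons.mpr ⟨nodeA_1_0, List.forall_mem_cons.mpr ⟨nodeA_1_1, List.forall_mem_cons.mpr ⟨nodeA_1_2, List.forall_mem_cons.mpr ⟨nodeA_1_3, List.forall_mem_cons.mpr ⟨nodeA_1_4, List.forall_mem_cons.mpr ⟨nodeA_1_5, List.forall_mem_cons.mpr ⟨nodeA_1_6, List.forall_mem_cons.mpr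 ⟨nodeA_1_7, List.forall_mem_cons.mpr ⟨nodeA_1_8, List.forall_mem_cons.mpr ⟨nodeA_1_9, List.forall_mem_cons.mpr ⟨nodeA_1_10, List.forall_mem_cons.mpr ⟨nodeA_1_11, List.forall_mem_cons.mpr ⟨nodeA_1_12, List.forall_mem_cons.mpr ⟨nodeA_1_13, List.forall_mem_cons.mpr ⟨nodeA_1_14, List.forall_mem_cons.mpr ⟨nodeA_1_15, List.forall_mem_cons.mpr ⟨nodeA_1_16, List.forall_mem_cons.mpr ⟨nodeA_1_17, List.forall_mem_cons.mpr ⟨nodeA_1_18, List.forall_mem_cons.mpr ⟨nodeA_1_19, List.forall_mem_cons.mpr ⟨nodeA_1_20, List.forall_mem_cons.mpr ⟨nodeA_1_21, List.forall_mem_cons.mpr ⟨nodeA_1_22, List.forall_mem_cons.mpr ⟨nodeA_1_23, List.forall_mem_cons.mpr ⟨nodeA_1_24, List.forall_mem_cons.mpr ⟨nodeA_1_25, List.forall_mem_cons.mpr ⟨nodeA_1_26, List.forall_mem_cons.mpr ⟨nodeA_1_27, List.forall_mem_cons.mpr ⟨nodeA_1_28, List.forall_mem_cons.mpr ⟨nodeA_1_29, List.forall_mem_cons.mpr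 ⟨nodeA_1_30, List.forall_mem_cons.mpr ⟨nodeA_1_31, List.forall_mem_cons.mpr ⟨nodeA_1_32, List.forall_mem_cons.mpr ⟨nodeA_1_33, List.forall_mem_cons.mpr ⟨nodeA_1_34, List.forall_mem_cons.mpr ⟨nodeA_1_35, List.forall_mem_cons.mpr ⟨nodeA_1_36, List.forall_mem_cons.mpr ⟨nodeA_1_37, List.forall_mem_cons.mpr ⟨nodeA_1_38, (fun _ h => absurd h List.not_mem_nil)⟩⟩⟩⟩⟩⟩⟩⟩⟩⟩⟩⟩⟩⟩⟩⟩⟩⟩⟩⟩⟩⟩⟩⟩⟩⟩⟩⟩⟩⟩⟩⟩⟩⟩⟩⟩⟩⟩⟩) (.done))

end CfsgLib.SporadicOut.Fi22
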