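import Cfsg.Agent.Lib.SporadicOut.Fi22StageB

/-! Checks of a search for the automorphisms of the Fischer group Fi22 on 3510 points. -/

set_option autoImplicit false
set_option maxRecDepth 20000
set_option linter.all false
set_option Elab.async false

namespace CfsgLib.SporadicOut.Fi22

open CfsgLib.SporRecognition.CosetCert
open CfsgLib.SporRecognition.Cert.Fi22U (T1 T2 T3 T4 T5 T6 T7 T8 T9 lab)

theorem nodeB_2_27 : nodeChk 12 3510 lbl tB tB [(55, 3), (8, 6)] (441, 6) leavesB [55, 2476] = true := by decide +kernel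

theorem nodeB_2_28 : nodeChk 12 3510 lbl tB tB [(55, 3), (8, 6)] (441, 6) leavesB [55, 2955] = true := by decide +kernel

theorem nodeB_2_29 : nodeChk 12 3510 lbl tB tB [(55, 3), (8, 6)] (441, 6) leavesB [55, 3142] = true := by decide +kernel

theorem nodeB_2_30 : nodeChk 12 3510 lbl tB tB [(55, 3), (8, 6)] (441, 6) leavesB [55, 3365] = true := by decide +kernel

theorem nodeB_2_31 : nodeChk 12 3510 lbl tB tB [(55, 3), (8, 6)] (441, 6) leavesB [55, 3476] = true := by decide +kernel

theorem nodeB_2_32 : nodeChk 12 3510 lbl tB tB [(55, 3), (8, 6)] (441, 6) leavesB [143, 73] = true := by decide +kernel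

theorem nodeB_2_33 : nodeChk 12 3510 lbl tB tB [(55, 3), (8, 6)] (441, 6) leavesB [143, 85] = true := by decide +kernel

theorem nodeB_2_34 : nodeChk 12 3510 lbl tB tB [(55, 3), (8, 6)] (441, 6) leavesB [143, 100] = true := by decide +kernel

theorem nodeB_2_35 : nodeChk 12 3510 lbl tB tB [(55, 3), (8, 6)] (441, 6) leavesB [143, 108] = true := by decide +kernel

theorem nodeB_2_36 : nodeChk 12 3510 lbl tB tB [(55, 3), (8, 6)] (441, 6) leavesB [143, 112] = true := by decide +kernel

theorem nodeB_2_37 : nodeChk 12 3510 lbl tB tB [(55, 3), (8, 6)] (441, 6) leavesB [143, 116] = true := by decide +kernel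

theorem nodeB_2_38 : nodeChk 12 3510 lbl tB tB [(55, 3), (8, 6)] (441, 6) leavesB [143, 135] = true := by decide +kernel

theorem nodeB_2_39 : nodeChk 12 3510 lbl tB tB [(55, 3), (8, 6)] (441, 6) leavesB [143, 151] = true := by decide +kernel

theorem nodeB_2_40 : nodeChk 12 3510 lbl tB tB [(55, 3), (8, 6)] (441, 6) leavesB [143, 164] = true := by decide +kernel

theorem nodeB_2_41 : nodeChk 12 3510 lbl tB tB [(55, 3), (8, 6)] (441, 6) leavesB [143, 386] = true := by decide +kernel

theorem nodeB_2_42 : nodeChk 12 3510 lbl tB tB [(55, 3), (8, 6)] (441, 6) leavesB [143, 441] = true := by decide +kernel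

theorem nodeB_2_43 : nodeChk 12 3510 lbl tB tB [(55, 3), (8, 6)] (441, 6) leavesB [143, 443] = true := by decide +kernel

theorem nodeB_2_44 : nodeChk 12 3510 lbl tB tB [(55, 3), (8, 6)] (441, 6) leavesB [143, 527] = true := by decide +kernel

theorem nodeB_2_45 : nodeChk 12 3510 lbl tB tB [(55, 3), (8, 6)] (441, 6) leavesB [143, 614] = true := by decide +kernel

theorem nodeB_2_46 : nodeChk 12 3510 lbl tB tB [(55, 3), (8, 6)] (441, 6) leavesB [143, 617] = true := by decide +kernel

theorem nodeB_2_47 : nodeChk 12 3510 lbl tB tB [(55, 3), (8, 6)] (441, 6) leavesB [143, 678] = true := by decide +kernel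

theorem nodeB_2_48 : nodeChk 12 3510 lbl tB tB [(55, 3), (8, 6)] (441, 6) leavesB [143, 702] = true := by decide +kernel

theorem nodeB_2_49 : nodeChk 12 3510 lbl tB tB [(55, 3), (8, 6)] (441, 6) leavesB [143, 856] = true := by decide +kernel

theorem nodeB_2_50 : nodeChk 12 3510 lbl tB tB [(55, 3), (8, 6)] (441, 6) leavesB [143, 914] = true := by decide +kernel

theorem nodeB_2_51 : nodeChk 12 3510 lbl tB tB [(55, 3), (8, 6)] (441, 6) leavesB [143, 984] = true := by decide +kernel

theorem nodeB_2_52 : nodeChk 12 3510 lbl tB tB [(55, 3), (8, 6)] (441, 6) leavesB [143, 1313] = true := by decide +kernel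

theorem nodeB_2_53 : nodeChk 12 3510 lbl tB tB [(55, 3), (8, 6)] (441, 6) leavesB [143, 1379] = true := by decide +kernel

theorem nodeB_2_54 : nodeChk 12 3510 lbl tB tB [(55, 3), (8, 6)] (441, 6) leavesB [143, 2265] = true := by decide +kernel

theorem nodeB_2_55 : nodeChk 12 3510 lbl tB tB [(55, 3), (8, 6)] (441, 6) leavesB [143, 2315] = true := by decide +kernel

theorem nodeB_2_56 : nodeChk 12 3510 lbl tB tB [(55, 3), (8, 6)] (441, 6) leavesB [143, 2479] = true := by decide +kernel

theorem nodeB_2_57 : nodeChk 12 3510 lbl tB tB [(55, 3), (8, 6)] (441, 6) leavesB [143, 2565] = true := by decide +kernel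

theorem nodeB_2_58 : nodeChk 12 3510 lbl tB tB [(55, 3), (8, 6)] (441, 6) leavesB [143, 2714] = true := by decide +kernel

theorem nodeB_2_59 : nodeChk 12 3510 lbl tB tB [(55, 3), (8, 6)] (441, 6) leavesB [143, 2838] = true := by decide +kernel

theorem nodeB_2_60 : nodeChk 12 3510 lbl tB tB [(55, 3), (8, 6)] (441, 6) leavesB [143, 2891] = true := by decide +kernel


end CfsgLib.SporadicOut.Fi22
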