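import Cfsg.Agent.Lib.SporadicOut.Fi22StageB

/-! Checks of a search for the automorphisms of the Fischer group Fi22 on 3510 points. -/

set_option autoImplicit false
set_option maxRecDepth 20000
set_option linter.all false
set_option Elab.async false

namespace CfsgLib.SporadicOut.Fi22

open CfsgLib.SporRecognition.CosetCert
open CfsgLib.SporRecognition.Cert.Fi22U (T1 T2 T3 T4 T5 T6 T7 T8 T9 lab)

theorem nodeB_2_61 : nodeChk 12 3510 lbl tB tB [(55, 3), (8, 6)] (441, 6) leavesB [143, 2951] = true := by decide +kernel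

theorem nodeB_2_62 : nodeChk 12 3510 lbl tB tB [(55, 3), (8, 6)] (441, 6) leavesB [143, 2967] = true := by decide +kernel

theorem nodeB_2_63 : nodeChk 12 3510 lbl tB tB [(55, 3), (8, 6)] (441, 6) leavesB [143, 3377] = true := by decide +kernel

theorem nodeB_2_64 : nodeChk 12 3510 lbl tB tB [(55, 3), (8, 6)] (441, 6) leavesB [323, 402] = true := by decide +kernel

theorem nodeB_2_65 : nodeChk 12 3510 lbl tB tB [(55, 3), (8, 6)] (441, 6) leavesB [323, 486] = true := by decide +kernel

theorem nodeB_2_66 : nodeChk 12 3510 lbl tB tB [(55, 3), (8, 6)] (441, 6) leavesB [323, 533] = true := by decide +kernel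

theorem nodeB_2_67 : nodeChk 12 3510 lbl tB tB [(55, 3), (8, 6)] (441, 6) leavesB [323, 638] = true := by decide +kernel

theorem nodeB_2_68 : nodeChk 12 3510 lbl tB tB [(55, 3), (8, 6)] (441, 6) leavesB [323, 689] = true := by decide +kernel

theorem nodeB_2_69 : nodeChk 12 3510 lbl tB tB [(55, 3), (8, 6)] (441, 6) leavesB [323, 690] = true := by decide +kernel

theorem nodeB_2_70 : nodeChk 12 3510 lbl tB tB [(55, 3), (8, 6)] (441, 6) leavesB [323, 694] = true := by decide +kernel

theorem nodeB_2_71 : nodeChk 12 3510 lbl tB tB [(55, 3), (8, 6)] (441, 6) leavesB [323, 744] = true := by decide +kernel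

theorem nodeB_2_72 : nodeChk 12 3510 lbl tB tB [(55, 3), (8, 6)] (441, 6) leavesB [323, 749] = true := by decide +kernel

theorem nodeB_2_73 : nodeChk 12 3510 lbl tB tB [(55, 3), (8, 6)] (441, 6) leavesB [323, 769] = true := by decide +kernel

theorem nodeB_2_74 : nodeChk 12 3510 lbl tB tB [(55, 3), (8, 6)] (441, 6) leavesB [323, 1001] = true := by decide +kernel

theorem nodeB_2_75 : nodeChk 12 3510 lbl tB tB [(55, 3), (8, 6)] (441, 6) leavesB [323, 1111] = true := by decide +kernel

theorem nodeB_2_76 : nodeChk 12 3510 lbl tB tB [(55, 3), (8, 6)] (441, 6) leavesB [323, 1397] = true := by decide +kernel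

theorem nodeB_2_77 : nodeChk 12 3510 lbl tB tB [(55, 3), (8, 6)] (441, 6) leavesB [323, 1401] = true := by decide +kernel

theorem nodeB_2_78 : nodeChk 12 3510 lbl tB tB [(55, 3), (8, 6)] (441, 6) leavesB [323, 1488] = true := by decide +kernel

theorem nodeB_2_79 : nodeChk 12 3510 lbl tB tB [(55, 3), (8, 6)] (441, 6) leavesB [323, 1560] = true := by decide +kernel

theorem nodeB_2_80 : nodeChk 12 3510 lbl tB tB [(55, 3), (8, 6)] (441, 6) leavesB [323, 1592] = true := by decide +kernel

theorem nodeB_2_81 : nodeChk 12 3510 lbl tB tB [(55, 3), (8, 6)] (441, 6) leavesB [323, 1909] = true := by decide +kernel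

theorem nodeB_2_82 : nodeChk 12 3510 lbl tB tB [(55, 3), (8, 6)] (441, 6) leavesB [323, 1976] = true := by decide +kernel

theorem nodeB_2_83 : nodeChk 12 3510 lbl tB tB [(55, 3), (8, 6)] (441, 6) leavesB [323, 2092] = true := by decide +kernel

theorem nodeB_2_84 : nodeChk 12 3510 lbl tB tB [(55, 3), (8, 6)] (441, 6) leavesB [323, 2187] = true := by decide +kernel

theorem nodeB_2_85 : nodeChk 12 3510 lbl tB tB [(55, 3), (8, 6)] (441, 6) leavesB [323, 2602] = true := by decide +kernel

theorem nodeB_2_86 : nodeChk 12 3510 lbl tB tB [(55, 3), (8, 6)] (441, 6) leavesB [323, 2617] = true := by decide +kernel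

theorem nodeB_2_87 : nodeChk 12 3510 lbl tB tB [(55, 3), (8, 6)] (441, 6) leavesB [323, 2698] = true := by decide +kernel

theorem nodeB_2_88 : nodeChk 12 3510 lbl tB tB [(55, 3), (8, 6)] (441, 6) leavesB [323, 2717] = true := by decide +kernel

theorem nodeB_2_89 : nodeChk 12 3510 lbl tB tB [(55, 3), (8, 6)] (441, 6) leavesB [323, 2775] = true := by decide +kernel

theorem nodeB_2_90 : nodeChk 12 3510 lbl tB tB [(55, 3), (8, 6)] (441, 6) leavesB [323, 2821] = true := by decide +kernel

theorem nodeB_2_91 : nodeChk 12 3510 lbl tB tB [(55, 3), (8, 6)] (441, 6) leavesB [323, 2899] = true := by decide +kernel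

theorem nodeB_2_92 : nodeChk 12 3510 lbl tB tB [(55, 3), (8, 6)] (441, 6) leavesB [323, 2942] = true := by decide +kernel

theorem nodeB_2_93 : nodeChk 12 3510 lbl tB tB [(55, 3), (8, 6)] (441, 6) leavesB [323, 3089] = true := by decide +kernel

theorem nodeB_2_94 : nodeChk 12 3510 lbl tB tB [(55, 3), (8, 6)] (441, 6) leavesB [323, 3179] = true := by decide +kernel


end CfsgLib.SporadicOut.Fi22
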