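import Cfsg.Agent.Lib.SporadicOut.Fi22StageB

/-! Checks of a search for the automorphisms of the Fischer group Fi22 on 3510 points. -/

set_option autoImplicit false
set_option maxRecDepth 20000
set_option linter.all false
set_option Elab.async false

namespace CfsgLib.SporadicOut.Fi22

open CfsgLib.SporRecognition.CosetCert
open CfsgLib.SporRecognition.Cert.Fi22U (T1 T2 T3 T4 T5 T6 T7 T8 T9 lab)

theorem nodeB_2_95 : nodeChk 12 3510 lbl tB tB [(55, 3), (8, 6)] (441, 6) leavesB [323, 3238] = true := by decide +kernel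

theorem nodeB_2_96 : nodeChk 12 3510 lbl tB tB [(55, 3), (8, 6)] (441, 6) leavesB [595, 49] = true := by decide +kernel

theorem nodeB_2_97 : nodeChk 12 3510 lbl tB tB [(55, 3), (8, 6)] (441, 6) leavesB [595, 115] = true := by decide +kernel

theorem nodeB_2_98 : nodeChk 12 3510 lbl tB tB [(55, 3), (8, 6)] (441, 6) leavesB [595, 181] = true := by decide +kernel

theorem nodeB_2_99 : nodeChk 12 3510 lbl tB tB [(55, 3), (8, 6)] (441, 6) leavesB [595, 211] = true := by decide +kernel

theorem nodeB_2_100 : nodeChk 12 3510 lbl tB tB [(55, 3), (8, 6)] (441, 6) leavesB [595, 231] = true := by decide +kernel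

theorem nodeB_2_101 : nodeChk 12 3510 lbl tB tB [(55, 3), (8, 6)] (441, 6) leavesB [595, 246] = true := by decide +kernel

theorem nodeB_2_102 : nodeChk 12 3510 lbl tB tB [(55, 3), (8, 6)] (441, 6) leavesB [595, 257] = true := by decide +kernel

theorem nodeB_2_103 : nodeChk 12 3510 lbl tB tB [(55, 3), (8, 6)] (441, 6) leavesB [595, 280] = true := by decide +kernel

theorem nodeB_2_104 : nodeChk 12 3510 lbl tB tB [(55, 3), (8, 6)] (441, 6) leavesB [595, 331] = true := by decide +kernel

theorem nodeB_2_105 : nodeChk 12 3510 lbl tB tB [(55, 3), (8, 6)] (441, 6) leavesB [595, 356] = true := by decide +kernel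

theorem nodeB_2_106 : nodeChk 12 3510 lbl tB tB [(55, 3), (8, 6)] (441, 6) leavesB [595, 362] = true := by decide +kernel

theorem nodeB_2_107 : nodeChk 12 3510 lbl tB tB [(55, 3), (8, 6)] (441, 6) leavesB [595, 405] = true := by decide +kernel

theorem nodeB_2_108 : nodeChk 12 3510 lbl tB tB [(55, 3), (8, 6)] (441, 6) leavesB [595, 409] = true := by decide +kernel

theorem nodeB_2_109 : nodeChk 12 3510 lbl tB tB [(55, 3), (8, 6)] (441, 6) leavesB [595, 573] = true := by decide +kernel

theorem nodeB_2_110 : nodeChk 12 3510 lbl tB tB [(55, 3), (8, 6)] (441, 6) leavesB [595, 597] = true := by decide +kernel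

theorem nodeB_2_111 : nodeChk 12 3510 lbl tB tB [(55, 3), (8, 6)] (441, 6) leavesB [595, 600] = true := by decide +kernel

theorem nodeB_2_112 : nodeChk 12 3510 lbl tB tB [(55, 3), (8, 6)] (441, 6) leavesB [595, 879] = true := by decide +kernel

theorem nodeB_2_113 : nodeChk 12 3510 lbl tB tB [(55, 3), (8, 6)] (441, 6) leavesB [595, 883] = true := by decide +kernel

theorem nodeB_2_114 : nodeChk 12 3510 lbl tB tB [(55, 3), (8, 6)] (441, 6) leavesB [595, 1429] = true := by decide +kernel

theorem nodeB_2_115 : nodeChk 12 3510 lbl tB tB [(55, 3), (8, 6)] (441, 6) leavesB [595, 1707] = true := by decide +kernel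

theorem nodeB_2_116 : nodeChk 12 3510 lbl tB tB [(55, 3), (8, 6)] (441, 6) leavesB [595, 1757] = true := by decide +kernel

theorem nodeB_2_117 : nodeChk 12 3510 lbl tB tB [(55, 3), (8, 6)] (441, 6) leavesB [595, 1776] = true := by decide +kernel

theorem nodeB_2_118 : nodeChk 12 3510 lbl tB tB [(55, 3), (8, 6)] (441, 6) leavesB [595, 1779] = true := by decide +kernel

theorem nodeB_2_119 : nodeChk 12 3510 lbl tB tB [(55, 3), (8, 6)] (441, 6) leavesB [595, 1984] = true := by decide +kernel

theorem nodeB_2_120 : nodeChk 12 3510 lbl tB tB [(55, 3), (8, 6)] (441, 6) leavesB [595, 1992] = true := by decide +kernel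

theorem nodeB_2_121 : nodeChk 12 3510 lbl tB tB [(55, 3), (8, 6)] (441, 6) leavesB [595, 2363] = true := by decide +kernel

theorem nodeB_2_122 : nodeChk 12 3510 lbl tB tB [(55, 3), (8, 6)] (441, 6) leavesB [595, 2480] = true := by decide +kernel

theorem nodeB_2_123 : nodeChk 12 3510 lbl tB tB [(55, 3), (8, 6)] (441, 6) leavesB [595, 2827] = true := by decide +kernel

theorem nodeB_2_124 : nodeChk 12 3510 lbl tB tB [(55, 3), (8, 6)] (441, 6) leavesB [595, 2881] = true := by decide +kernel

theorem nodeB_2_125 : nodeChk 12 3510 lbl tB tB [(55, 3), (8, 6)] (441, 6) leavesB [595, 2974] = true := by decide +kernel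

theorem nodeB_2_126 : nodeChk 12 3510 lbl tB tB [(55, 3), (8, 6)] (441, 6) leavesB [595, 3472] = true := by decide +kernel

theorem nodeB_2_127 : nodeChk 12 3510 lbl tB tB [(55, 3), (8, 6)] (441, 6) leavesB [595, 3494] = true := by decide +kernel

theorem nodeB_2_128 : nodeChk 12 3510 lbl tB tB [(55, 3), (8, 6)] (441, 6) leavesB [2454, 148] = true := by decide +kernel


end CfsgLib.SporadicOut.Fi22
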