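import Cfsg.Agent.Lib.SporadicOut.Fi22StageB

/-! Checks of a search for the automorphisms of the Fischer group Fi22 on 3510 points. -/

set_option autoImplicit false
set_option maxRecDepth 20000
set_option linter.all false
set_option Elab.async false

namespace CfsgLib.SporadicOut.Fi22

open CfsgLib.SporRecognition.CosetCert
open CfsgLib.SporRecognition.Cert.Fi22U (T1 T2 T3 T4 T5 T6 T7 T8 T9 lab)

theorem nodeB_2_129 : nodeChk 12 3510 lbl tB tB [(55, 3), (8, 6)] (441, 6) leavesB [2454, 178] = true := by decide +kernel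

theorem nodeB_2_130 : nodeChk 12 3510 lbl tB tB [(55, 3), (8, 6)] (441, 6) leavesB [2454, 253] = true := by decide +kernel

theorem nodeB_2_131 : nodeChk 12 3510 lbl tB tB [(55, 3), (8, 6)] (441, 6) leavesB [2454, 619] = true := by decide +kernel

theorem nodeB_2_132 : nodeChk 12 3510 lbl tB tB [(55, 3), (8, 6)] (441, 6) leavesB [2454, 660] = true := by decide +kernel

theorem nodeB_2_133 : nodeChk 12 3510 lbl tB tB [(55, 3), (8, 6)] (441, 6) leavesB [2454, 675] = true := by decide +kernel

theorem nodeB_2_134 : nodeChk 12 3510 lbl tB tB [(55, 3), (8, 6)] (441, 6) leavesB [2454, 699] = true := by decide +kernel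

theorem nodeB_2_135 : nodeChk 12 3510 lbl tB tB [(55, 3), (8, 6)] (441, 6) leavesB [2454, 710] = true := by decide +kernel

theorem nodeB_2_136 : nodeChk 12 3510 lbl tB tB [(55, 3), (8, 6)] (441, 6) leavesB [2454, 923] = true := by decide +kernel

theorem nodeB_2_137 : nodeChk 12 3510 lbl tB tB [(55, 3), (8, 6)] (441, 6) leavesB [2454, 941] = true := by decide +kernel

theorem nodeB_2_138 : nodeChk 12 3510 lbl tB tB [(55, 3), (8, 6)] (441, 6) leavesB [2454, 945] = true := by decide +kernel

theorem nodeB_2_139 : nodeChk 12 3510 lbl tB tB [(55, 3), (8, 6)] (441, 6) leavesB [2454, 1186] = true := by decide +kernel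

theorem nodeB_2_140 : nodeChk 12 3510 lbl tB tB [(55, 3), (8, 6)] (441, 6) leavesB [2454, 1315] = true := by decide +kernel

theorem nodeB_2_141 : nodeChk 12 3510 lbl tB tB [(55, 3), (8, 6)] (441, 6) leavesB [2454, 1361] = true := by decide +kernel

theorem nodeB_2_142 : nodeChk 12 3510 lbl tB tB [(55, 3), (8, 6)] (441, 6) leavesB [2454, 1522] = true := by decide +kernel

theorem nodeB_2_143 : nodeChk 12 3510 lbl tB tB [(55, 3), (8, 6)] (441, 6) leavesB [2454, 1600] = true := by decide +kernel

theorem nodeB_2_144 : nodeChk 12 3510 lbl tB tB [(55, 3), (8, 6)] (441, 6) leavesB [2454, 1721] = true := by decide +kernel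

theorem nodeB_2_145 : nodeChk 12 3510 lbl tB tB [(55, 3), (8, 6)] (441, 6) leavesB [2454, 1812] = true := by decide +kernel

theorem nodeB_2_146 : nodeChk 12 3510 lbl tB tB [(55, 3), (8, 6)] (441, 6) leavesB [2454, 1943] = true := by decide +kernel

theorem nodeB_2_147 : nodeChk 12 3510 lbl tB tB [(55, 3), (8, 6)] (441, 6) leavesB [2454, 1971] = true := by decide +kernel

theorem nodeB_2_148 : nodeChk 12 3510 lbl tB tB [(55, 3), (8, 6)] (441, 6) leavesB [2454, 2031] = true := by decide +kernel

theorem nodeB_2_149 : nodeChk 12 3510 lbl tB tB [(55, 3), (8, 6)] (441, 6) leavesB [2454, 2154] = true := by decide +kernel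

theorem nodeB_2_150 : nodeChk 12 3510 lbl tB tB [(55, 3), (8, 6)] (441, 6) leavesB [2454, 2365] = true := by decide +kernel

theorem nodeB_2_151 : nodeChk 12 3510 lbl tB tB [(55, 3), (8, 6)] (441, 6) leavesB [2454, 2466] = true := by decide +kernel

theorem nodeB_2_152 : nodeChk 12 3510 lbl tB tB [(55, 3), (8, 6)] (441, 6) leavesB [2454, 2500] = true := by decide +kernel

theorem nodeB_2_153 : nodeChk 12 3510 lbl tB tB [(55, 3), (8, 6)] (441, 6) leavesB [2454, 2525] = true := by decide +kernel

theorem nodeB_2_154 : nodeChk 12 3510 lbl tB tB [(55, 3), (8, 6)] (441, 6) leavesB [2454, 2530] = true := by decide +kernel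

theorem nodeB_2_155 : nodeChk 12 3510 lbl tB tB [(55, 3), (8, 6)] (441, 6) leavesB [2454, 2778] = true := by decide +kernel

theorem nodeB_2_156 : nodeChk 12 3510 lbl tB tB [(55, 3), (8, 6)] (441, 6) leavesB [2454, 2879] = true := by decide +kernel

theorem nodeB_2_157 : nodeChk 12 3510 lbl tB tB [(55, 3), (8, 6)] (441, 6) leavesB [2454, 2888] = true := by decide +kernel

theorem nodeB_2_158 : nodeChk 12 3510 lbl tB tB [(55, 3), (8, 6)] (441, 6) leavesB [2454, 3032] = true := by decide +kernel

theorem nodeB_2_159 : nodeChk 12 3510 lbl tB tB [(55, 3), (8, 6)] (441, 6) leavesB [2454, 3284] = true := by decide +kernel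

theorem nodeB_2_160 : nodeChk 12 3510 lbl tB tB [(55, 3), (8, 6)] (441, 6) leavesB [3109, 271] = true := by decide +kernel

theorem nodeB_2_161 : nodeChk 12 3510 lbl tB tB [(55, 3), (8, 6)] (441, 6) leavesB [3109, 303] = true := by decide +kernel

theorem nodeB_2_162 : nodeChk 12 3510 lbl tB tB [(55, 3), (8, 6)] (441, 6) leavesB [3109, 357] = true := by decide +kernel


end CfsgLib.SporadicOut.Fi22
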