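import Cfsg.Agent.Lib.SporadicOut.Fi22StageB

/-! Checks of a search for the automorphisms of the Fischer group Fi22 on 3510 points. -/

set_option autoImplicit false
set_option maxRecDepth 20000
set_option linter.all false
set_option Elab.async false

namespace CfsgLib.SporadicOut.Fi22

open CfsgLib.SporRecognition.CosetCert
open CfsgLib.SporRecognition.Cert.Fi22U (T1 T2 T3 T4 T5 T6 T7 T8 T9 lab)

theorem nodeB_2_163 : nodeChk 12 3510 lbl tB tB [(55, 3), (8, 6)] (441, 6) leavesB [3109, 470] = true := by decide +kernel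

theorem nodeB_2_164 : nodeChk 12 3510 lbl tB tB [(55, 3), (8, 6)] (441, 6) leavesB [3109, 1027] = true := by decide +kernel

theorem nodeB_2_165 : nodeChk 12 3510 lbl tB tB [(55, 3), (8, 6)] (441, 6) leavesB [3109, 1149] = true := by decide +kernel

theorem nodeB_2_166 : nodeChk 12 3510 lbl tB tB [(55, 3), (8, 6)] (441, 6) leavesB [3109, 1268] = true := by decide +kernel

theorem nodeB_2_167 : nodeChk 12 3510 lbl tB tB [(55, 3), (8, 6)] (441, 6) leavesB [3109, 1354] = true := by decide +kernel

theorem nodeB_2_168 : nodeChk 12 3510 lbl tB tB [(55, 3), (8, 6)] (441, 6) leavesB [3109, 1375] = true := by decide +kernel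

theorem nodeB_2_169 : nodeChk 12 3510 lbl tB tB [(55, 3), (8, 6)] (441, 6) leavesB [3109, 1493] = true := by decide +kernel

theorem nodeB_2_170 : nodeChk 12 3510 lbl tB tB [(55, 3), (8, 6)] (441, 6) leavesB [3109, 1679] = true := by decide +kernel

theorem nodeB_2_171 : nodeChk 12 3510 lbl tB tB [(55, 3), (8, 6)] (441, 6) leavesB [3109, 1747] = true := by decide +kernel

theorem nodeB_2_172 : nodeChk 12 3510 lbl tB tB [(55, 3), (8, 6)] (441, 6) leavesB [3109, 1891] = true := by decide +kernel

theorem nodeB_2_173 : nodeChk 12 3510 lbl tB tB [(55, 3), (8, 6)] (441, 6) leavesB [3109, 1935] = true := by decide +kernel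

theorem nodeB_2_174 : nodeChk 12 3510 lbl tB tB [(55, 3), (8, 6)] (441, 6) leavesB [3109, 2077] = true := by decide +kernel

theorem nodeB_2_175 : nodeChk 12 3510 lbl tB tB [(55, 3), (8, 6)] (441, 6) leavesB [3109, 2150] = true := by decide +kernel

theorem nodeB_2_176 : nodeChk 12 3510 lbl tB tB [(55, 3), (8, 6)] (441, 6) leavesB [3109, 2184] = true := by decide +kernel

theorem nodeB_2_177 : nodeChk 12 3510 lbl tB tB [(55, 3), (8, 6)] (441, 6) leavesB [3109, 2202] = true := by decide +kernel

theorem nodeB_2_178 : nodeChk 12 3510 lbl tB tB [(55, 3), (8, 6)] (441, 6) leavesB [3109, 2347] = true := by decide +kernel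

theorem nodeB_2_179 : nodeChk 12 3510 lbl tB tB [(55, 3), (8, 6)] (441, 6) leavesB [3109, 2356] = true := by decide +kernel

theorem nodeB_2_180 : nodeChk 12 3510 lbl tB tB [(55, 3), (8, 6)] (441, 6) leavesB [3109, 2357] = true := by decide +kernel

theorem nodeB_2_181 : nodeChk 12 3510 lbl tB tB [(55, 3), (8, 6)] (441, 6) leavesB [3109, 2408] = true := by decide +kernel

theorem nodeB_2_182 : nodeChk 12 3510 lbl tB tB [(55, 3), (8, 6)] (441, 6) leavesB [3109, 2409] = true := by decide +kernel

theorem nodeB_2_183 : nodeChk 12 3510 lbl tB tB [(55, 3), (8, 6)] (441, 6) leavesB [3109, 2493] = true := by decide +kernel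

theorem nodeB_2_184 : nodeChk 12 3510 lbl tB tB [(55, 3), (8, 6)] (441, 6) leavesB [3109, 2695] = true := by decide +kernel

theorem nodeB_2_185 : nodeChk 12 3510 lbl tB tB [(55, 3), (8, 6)] (441, 6) leavesB [3109, 2774] = true := by decide +kernel

theorem nodeB_2_186 : nodeChk 12 3510 lbl tB tB [(55, 3), (8, 6)] (441, 6) leavesB [3109, 2914] = true := by decide +kernel

theorem nodeB_2_187 : nodeChk 12 3510 lbl tB tB [(55, 3), (8, 6)] (441, 6) leavesB [3109, 3146] = true := by decide +kernel

theorem nodeB_2_188 : nodeChk 12 3510 lbl tB tB [(55, 3), (8, 6)] (441, 6) leavesB [3109, 3160] = true := by decide +kernel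

theorem nodeB_2_189 : nodeChk 12 3510 lbl tB tB [(55, 3), (8, 6)] (441, 6) leavesB [3109, 3170] = true := by decide +kernel

theorem nodeB_2_190 : nodeChk 12 3510 lbl tB tB [(55, 3), (8, 6)] (441, 6) leavesB [3109, 3210] = true := by decide +kernel

theorem nodeB_2_191 : nodeChk 12 3510 lbl tB tB [(55, 3), (8, 6)] (441, 6) leavesB [3109, 3256] = true := by decide +kernel


end CfsgLib.SporadicOut.Fi22
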