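import Cfsg.Agent.Lib.SporadicOut.Fi22SearchB0
import Cfsg.Agent.Lib.SporadicOut.Fi22SearchB1
import Cfsg.Agent.Lib.SporadicOut.Fi22SearchB2
import Cfsg.Agent.Lib.SporadicOut.Fi22SearchB3
import Cfsg.Agent.Lib.SporadicOut.Fi22SearchB4
import Cfsg.Agent.Lib.SporadicOut.Fi22SearchB5

/-! A search for the automorphisms of the Fischer group Fi22 on 3510 points. -/

set_option autoImplicit false
set_option maxRecDepth 20000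
set_option linter.all false
set_option Elab.async false

namespace CfsgLib.SporadicOut.Fi22

open CfsgLib.SporRecognition.CosetCert
open CfsgLib.SporRecognition.Cert.Fi22U (T1 T2 T3 T4 T5 T6 T7 T8 T9 lab)

theorem searchB : Staged 12 3510 lbl tB tB [] [[]] qsB leavesB := .next (by decide) (List.forall_mem_cons.mpr ⟨nodeB_0_0, (fun _ h => absurd h List.not_mem_nil)⟩) (.next (by decide) (List.forall_mem_cons.mpr ⟨nodeB_1_0, List.forall_mem_cons.mpr ⟨nodeB_1_1, List.forall_mem_cons.mpr ⟨nodeB_1_2, List.forall_mem_cons.mpr ⟨nodeB_1_3, List.forall_mem_cons.mpr ⟨nodeB_1_4, List.forall_mem_cons.mpr ⟨nodeB_1_5, (fun _ h => absurd h List.not_mem_nil)⟩⟩⟩⟩⟩⟩) (.next (by decide) (List.forall_mem_cons.mpr ⟨nodeB_2_0, List.forall_mem_cons.mpr ⟨nodeB_2_1, List.forall_mem_cons.mpr ⟨nodeB_2_2, List.forall_mem_cons.mpr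 ⟨nodeB_2_3, List.forall_mem_cons.mpr ⟨nodeB_2_4, List.forall_mem_cons.mpr ⟨nodeB_2_5, List.forall_mem_cons.mpr ⟨nodeB_2_6, List.forall_mem_cons.mpr ⟨nodeB_2_7, List.forall_mem_cons.mpr ⟨nodeB_2_8, List.forall_mem_cons.mpr ⟨nodeB_2_9, List.forall_mem_cons.mpr ⟨nodeB_2_10, List.forall_mem_cons.mpr ⟨nodeB_2_11, List.forall_mem_cons.mpr ⟨nodeB_2_12, List.forall_mem_cons.mpr ⟨nodeB_2_13, List.forall_mem_cons.mpr ⟨nodeB_2_14, List.forall_mem_cons.mpr ⟨nodeB_2_15, List.forall_mem_cons.mpr ⟨nodeB_2_16, List.forall_mem_cons.mpr ⟨nodeB_2_17, List.forall_mem_cons.mpr ⟨nodeB_2_18, List.forall_mem_cons.mpr ⟨nodeB_2_19, List.forall_mem_cons.mpr ⟨nodeB_2_20, List.forall_mem_cons.mpr ⟨nodeB_2_21, List.forall_mem_cons.mpr ⟨nodeB_2_22, List.forall_mem_cons.mpr ⟨nodeB_2_23, List.forall_mem_cons.mpr ⟨nodeB_2_24, List.forall_mem_cons.mpr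 ⟨nodeB_2_25, List.forall_mem_cons.mpr ⟨nodeB_2_26, List.forall_mem_cons.mpr ⟨nodeB_2_27, List.forall_mem_cons.mpr ⟨nodeB_2_28, List.forall_mem_cons.mpr ⟨nodeB_2_29, List.forall_mem_cons.mpr ⟨nodeB_2_30, List.forall_mem_cons.mpr ⟨nodeB_2_31, List.forall_mem_cons.mpr ⟨nodeB_2_32, List.forall_mem_cons.mpr ⟨nodeB_2_33, List.forall_mem_cons.mpr ⟨nodeB_2_34, List.forall_mem_cons.mpr ⟨nodeB_2_35, List.forall_mem_cons.mpr ⟨nodeB_2_36, List.forall_mem_cons.mpr ⟨nodeB_2_37, List.forall_mem_cons.mpr ⟨nodeB_2_38, List.forall_mem_cons.mpr ⟨nodeB_2_39, List.forall_mem_cons.mpr ⟨nodeB_2_40, List.forall_mem_cons.mpr ⟨nodeB_2_41, List.forall_mem_cons.mpr ⟨nodeB_2_42, List.forall_mem_cons.mpr ⟨nodeB_2_43, List.forall_mem_cons.mpr ⟨nodeB_2_44, List.forall_mem_cons.mpr ⟨nodeB_2_45, List.forall_mem_cons.mpr ⟨nodeB_2_46,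 List.forall_mem_cons.mpr ⟨nodeB_2_47, List.forall_mem_cons.mpr ⟨nodeB_2_48, List.forall_mem_cons.mpr ⟨nodeB_2_49, List.forall_mem_cons.mpr ⟨nodeB_2_50, List.forall_mem_cons.mpr ⟨nodeB_2_51, List.forall_mem_cons.mpr ⟨nodeB_2_52, List.forall_mem_cons.mpr ⟨nodeB_2_53, List.forall_mem_cons.mpr ⟨nodeB_2_54, List.forall_mem_cons.mpr ⟨nodeB_2_55, List.forall_mem_cons.mpr ⟨nodeB_2_56, List.forall_mem_cons.mpr ⟨nodeB_2_57, List.forall_mem_cons.mpr ⟨nodeB_2_58, List.forall_mem_cons.mpr ⟨nodeB_2_59, List.forall_mem_cons.mpr ⟨nodeB_2_60, List.forall_mem_cons.mpr ⟨nodeB_2_61, List.forall_mem_cons.mpr ⟨nodeB_2_62, List.forall_mem_cons.mpr ⟨nodeB_2_63, List.forall_mem_cons.mpr ⟨nodeB_2_64, List.forall_mem_cons.mpr ⟨nodeB_2_65, List.forall_mem_cons.mpr ⟨nodeB_2_66, List.forall_mem_cons.mpr ⟨nodeB_2_67, List.forall_mem_cons.mpr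 ⟨nodeB_2_68, List.forall_mem_cons.mpr ⟨nodeB_2_69, List.forall_mem_cons.mpr ⟨nodeB_2_70, List.forall_mem_cons.mpr ⟨nodeB_2_71, List.forall_mem_cons.mpr ⟨nodeB_2_72, List.forall_mem_cons.mpr ⟨nodeB_2_73, List.forall_mem_cons.mpr ⟨nodeB_2_74, List.forall_mem_cons.mpr ⟨nodeB_2_75, List.forall_mem_cons.mpr ⟨nodeB_2_76, List.forall_mem_cons.mpr ⟨nodeB_2_77, List.forall_mem_cons.mpr ⟨nodeB_2_78, List.forall_mem_cons.mpr ⟨nodeB_2_79, List.forall_mem_cons.mpr ⟨nodeB_2_80, List.forall_mem_cons.mpr ⟨nodeB_2_81, List.forall_mem_cons.mpr ⟨nodeB_2_82, List.forall_mem_cons.mpr ⟨nodeB_2_83, List.forall_mem_cons.mpr ⟨nodeB_2_84, List.forall_mem_cons.mpr ⟨nodeB_2_85, List.forall_mem_cons.mpr ⟨nodeB_2_86, List.forall_mem_cons.mpr ⟨nodeB_2_87, List.forall_mem_cons.mpr ⟨nodeB_2_88, List.forall_mem_cons.mpr ⟨nodeB_2_89,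 List.forall_mem_cons.mpr ⟨nodeB_2_90, List.forall_mem_cons.mpr ⟨nodeB_2_91, List.forall_mem_cons.mpr ⟨nodeB_2_92, List.forall_mem_cons.mpr ⟨nodeB_2_93, List.forall_mem_cons.mpr ⟨nodeB_2_94, List.forall_mem_cons.mpr ⟨nodeB_2_95, List.forall_mem_cons.mpr ⟨nodeB_2_96, List.forall_mem_cons.mpr ⟨nodeB_2_97, List.forall_mem_cons.mpr ⟨nodeB_2_98, List.forall_mem_cons.mpr ⟨nodeB_2_99, List.forall_mem_cons.mpr ⟨nodeB_2_100, List.forall_mem_cons.mpr ⟨nodeB_2_101, List.forall_mem_cons.mpr ⟨nodeB_2_102, List.forall_mem_cons.mpr ⟨nodeB_2_103, List.forall_mem_cons.mpr ⟨nodeB_2_104, List.forall_mem_cons.mpr ⟨nodeB_2_105, List.forall_mem_cons.mpr ⟨nodeB_2_106, List.forall_mem_cons.mpr ⟨nodeB_2_107, List.forall_mem_cons.mpr ⟨nodeB_2_108, List.forall_mem_cons.mpr ⟨nodeB_2_109, List.forall_mem_cons.mpr ⟨nodeB_2_110,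 List.forall_mem_cons.mpr ⟨nodeB_2_111, List.forall_mem_cons.mpr ⟨nodeB_2_112, List.forall_mem_cons.mpr ⟨nodeB_2_113, List.forall_mem_cons.mpr ⟨nodeB_2_114, List.forall_mem_cons.mpr ⟨nodeB_2_115, List.forall_mem_cons.mpr ⟨nodeB_2_116, List.forall_mem_cons.mpr ⟨nodeB_2_117, List.forall_mem_cons.mpr ⟨nodeB_2_118, List.forall_mem_cons.mpr ⟨nodeB_2_119, List.forall_mem_cons.mpr ⟨nodeB_2_120, List.forall_mem_cons.mpr ⟨nodeB_2_121, List.forall_mem_cons.mpr ⟨nodeB_2_122, List.forall_mem_cons.mpr ⟨nodeB_2_123, List.forall_mem_cons.mpr ⟨nodeB_2_124, List.forall_mem_cons.mpr ⟨nodeB_2_125, List.forall_mem_cons.mpr ⟨nodeB_2_126, List.forall_mem_cons.mpr ⟨nodeB_2_127, List.forall_mem_cons.mpr ⟨nodeB_2_128, List.forall_mem_cons.mpr ⟨nodeB_2_129, List.forall_mem_cons.mpr ⟨nodeB_2_130, List.forall_mem_cons.mpr ⟨nodeB_2_131,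 List.forall_mem_cons.mpr ⟨nodeB_2_132, List.forall_mem_cons.mpr ⟨nodeB_2_133, List.forall_mem_cons.mpr ⟨nodeB_2_134, List.forall_mem_cons.mpr ⟨nodeB_2_135, List.forall_mem_cons.mpr ⟨nodeB_2_136, List.forall_mem_cons.mpr ⟨nodeB_2_137, List.forall_mem_cons.mpr ⟨nodeB_2_138, List.forall_mem_cons.mpr ⟨nodeB_2_139, List.forall_mem_cons.mpr ⟨nodeB_2_140, List.forall_mem_cons.mpr ⟨nodeB_2_141, List.forall_mem_cons.mpr ⟨nodeB_2_142, List.forall_mem_cons.mpr ⟨nodeB_2_143, List.forall_mem_cons.mpr ⟨nodeB_2_144, List.forall_mem_cons.mpr ⟨nodeB_2_145, List.forall_mem_cons.mpr ⟨nodeB_2_146, List.forall_mem_cons.mpr ⟨nodeB_2_147, List.forall_mem_cons.mpr ⟨nodeB_2_148, List.forall_mem_cons.mpr ⟨nodeB_2_149, List.forall_mem_cons.mpr ⟨nodeB_2_150, List.forall_mem_cons.mpr ⟨nodeB_2_151, List.forall_mem_cons.mpr ⟨nodeB_2_152,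 List.forall_mem_cons.mpr ⟨nodeB_2_153, List.forall_mem_cons.mpr ⟨nodeB_2_154, List.forall_mem_cons.mpr ⟨nodeB_2_155, List.forall_mem_cons.mpr ⟨nodeB_2_156, List.forall_mem_cons.mpr ⟨nodeB_2_157, List.forall_mem_cons.mpr ⟨nodeB_2_158, List.forall_mem_cons.mpr ⟨nodeB_2_159, List.forall_mem_cons.mpr ⟨nodeB_2_160, List.forall_mem_cons.mpr ⟨nodeB_2_161, List.forall_mem_cons.mpr ⟨nodeB_2_162, List.forall_mem_cons.mpr ⟨nodeB_2_163, List.forall_mem_cons.mpr ⟨nodeB_2_164, List.forall_mem_cons.mpr ⟨nodeB_2_165, List.forall_mem_cons.mpr ⟨nodeB_2_166, List.forall_mem_cons.mpr ⟨nodeB_2_167, List.forall_mem_cons.mpr ⟨nodeB_2_168, List.forall_mem_cons.mpr ⟨nodeB_2_169, List.forall_mem_cons.mpr ⟨nodeB_2_170, List.forall_mem_cons.mpr ⟨nodeB_2_171, List.forall_mem_cons.mpr ⟨nodeB_2_172, List.forall_mem_cons.mpr ⟨nodeB_2_173,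 List.forall_mem_cons.mpr ⟨nodeB_2_174, List.forall_mem_cons.mpr ⟨nodeB_2_175, List.forall_mem_cons.mpr ⟨nodeB_2_176, List.forall_mem_cons.mpr ⟨nodeB_2_177, List.forall_mem_cons.mpr ⟨nodeB_2_178, List.forall_mem_cons.mpr ⟨nodeB_2_179, List.forall_mem_cons.mpr ⟨nodeB_2_180, List.forall_mem_cons.mpr ⟨nodeB_2_181, List.forall_mem_cons.mpr ⟨nodeB_2_182, List.forall_mem_cons.mpr ⟨nodeB_2_183, List.forall_mem_cons.mpr ⟨nodeB_2_184, List.forall_mem_cons.mpr ⟨nodeB_2_185, List.forall_mem_cons.mpr ⟨nodeB_2_186, List.forall_mem_cons.mpr ⟨nodeB_2_187, List.forall_mem_cons.mpr ⟨nodeB_2_188, List.forall_mem_cons.mpr ⟨nodeB_2_189, List.forall_mem_cons.mpr ⟨nodeB_2_190, List.forall_mem_cons.mpr ⟨nodeB_2_191, (fun _ h => absurd h List.not_mem_nil)⟩⟩⟩⟩⟩⟩⟩⟩⟩⟩⟩⟩⟩⟩⟩⟩⟩⟩⟩⟩⟩⟩⟩⟩⟩⟩⟩⟩⟩⟩⟩⟩⟩⟩⟩⟩⟩⟩⟩⟩⟩⟩⟩⟩⟩⟩⟩⟩⟩⟩⟩⟩⟩⟩⟩⟩⟩⟩⟩⟩⟩⟩⟩⟩⟩⟩⟩⟩⟩⟩⟩⟩⟩⟩⟩⟩⟩⟩⟩⟩⟩⟩⟩⟩⟩⟩⟩⟩⟩⟩⟩⟩⟩⟩⟩⟩⟩⟩⟩⟩⟩⟩⟩⟩⟩⟩⟩⟩⟩⟩⟩⟩⟩⟩⟩⟩⟩⟩⟩⟩⟩⟩⟩⟩⟩⟩⟩⟩⟩⟩⟩⟩⟩⟩⟩⟩⟩⟩⟩⟩⟩⟩⟩⟩⟩⟩⟩⟩⟩⟩⟩⟩⟩⟩⟩⟩⟩⟩⟩⟩⟩⟩⟩⟩⟩⟩⟩⟩⟩⟩⟩⟩⟩⟩⟩⟩⟩⟩⟩⟩⟩⟩⟩⟩⟩⟩⟩⟩⟩⟩⟩⟩)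 (.done)))

end CfsgLib.SporadicOut.Fi22
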