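import Mathlib

/-!
Normalising an automorphism on a self-centralising subgroup of prime order and a listed set of
exponents.
-/

set_option autoImplicit false

namespace CfsgLib.SporadicOut

open scoped Pointwise

variable {G : Type*} [Group G]

/-- After an inner automorphism, an automorphism fixes `b` and raises `a` to a listed power. -/
theorem exists_normalised_pow [Finite G] {p r : ℕ} [Fact p.Prime] {a b : G} (ha : orderOf a = p)
    (hp2 : ¬ p ^ 2 ∣ Nat.card G) (hba : b * a * b⁻¹ = a ^ r)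
    (hcent : ∀ g : G, g * a = a * g → g ∈ Subgroup.zpowers a) (K : List ℕ)
    (hcover : ∀ k < p, k ≠ 0 → ∃ i < p, k * r ^ i % p ∈ K)
    (hK : ∀ k ∈ K, k ≠ 0 ∧ k < p)
    (hshift : ∀ m < p, ∃ n < p, (r * n) % p = (r * m + n) % p) (φ : MulAut G) :
    ∃ g : G, (MulAut.conj g * φ) b = b ∧ ∃ k ∈ K, (MulAut.conj g * φ) a = a ^ k := by
  have hpp : p.Prime := Fact.out
  have hcard0 : Nat.card G ≠ 0 := Nat.card_pos.ne'
  have hfac : (Nat.card G).factorization p = 1 := by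
    have h1 := (hpp.dvd_iff_one_le_factorization hcard0).1 (ha ▸ orderOf_dvd_natCard a)
    have h2 : ¬ 2 ≤ (Nat.card G).factorization p := fun h =>
      hp2 ((hpp.pow_dvd_iff_le_factorization hcard0).2 h)
    omega
  obtain ⟨P, hP⟩ : ∃ P : Sylow p G, (P : Subgroup G) = Subgroup.zpowers a :=
    ⟨Sylow.ofCard (Subgroup.zpowers a) (by rw [Nat.card_zpowers, ha, hfac, pow_one]), rfl⟩
  obtain ⟨Q, hQ⟩ : ∃ Q : Sylow p G, (Q : Subgroup G) = Subgroup.zpowers (φ a) :=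
    ⟨Sylow.ofCard (Subgroup.zpowers (φ a))
      (by rw [Nat.card_zpowers, MulEquiv.orderOf_eq, ha, hfac, pow_one]), rfl⟩
  obtain ⟨g₁, hg₁⟩ := MulAction.exists_smul_eq G Q P
  have hmem : g₁ * φ a * g₁⁻¹ ∈ Subgroup.zpowers a := by
    rw [← hP, ← hg₁, Sylow.coe_subgroup_smul, Subgroup.mem_pointwise_smul_iff_inv_smul_mem, hQ]
    have : (MulAut.conj g₁)⁻¹ • (g₁ * φ a * g₁⁻¹) = φ a := by
      rw [inv_smul_eq_iff]; rfl
    rw [this]
    exact Subgroup.mem_zpowers _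
  rw [← mem_powers_iff_mem_zpowers] at hmem
  obtain ⟨k₀, hk₀⟩ := hmem
  replace hk₀ : g₁ * φ a * g₁⁻¹ = a ^ (k₀ % p) := by
    rw [← ha, pow_mod_orderOf]; exact hk₀.symm
  have hk : k₀ % p ≠ 0 := fun h => by
    rw [h, pow_zero] at hk₀
    have : φ a = 1 := by
      calc φ a = g₁⁻¹ * (g₁ * φ a * g₁⁻¹) * g₁ := by group
        _ = 1 := by rw [hk₀]; group
    rw [EmbeddingLike.map_eq_one_iff] at this
    rw [this, orderOf_one] at ha
    exact hpp.one_lt.ne ha
  obtain ⟨i, -, hi⟩ := hcover _ (Nat.mod_lt _ hpp.pos) hk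
  have hpow : ∀ i k : ℕ, b ^ i * a ^ k * (b ^ i)⁻¹ = a ^ (k * r ^ i) := by
    intro i
    induction i with
    | zero => intro k; simp
    | succ i ih =>
      intro k
      have : b * a ^ k * b⁻¹ = a ^ (k * r) := by
        rw [← conj_pow, hba, ← pow_mul, mul_comm]
      calc b ^ (i + 1) * a ^ k * (b ^ (i + 1))⁻¹ = b ^ i * (b * a ^ k * b⁻¹) * (b ^ i)⁻¹ := by
            rw [pow_succ]; group
        _ = _ := by rw [this, ih, pow_succ', mul_assoc]
  generalize hkk : k₀ % p * r ^ i % p = k at hi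
  set ψ := MulAut.conj (b ^ i * g₁) * φ with hψ
  have hψa : ψ a = a ^ k := by
    rw [← hkk, hψ, MulAut.mul_apply, MulAut.conj_apply, ← ha, pow_mod_orderOf, ha, ← hpow i, ← hk₀]
    group
  have hψb : ψ b * a ^ k * (ψ b)⁻¹ = (a ^ r) ^ k := by
    have e := congrArg ψ hba
    rw [map_mul, map_mul, map_inv, map_pow, hψa] at e
    rw [e, ← pow_mul, ← pow_mul, mul_comm]
  have hcop : p.Coprime k := (hpp.coprime_iff_not_dvd).2 fun hd => by
    have := Nat.le_of_dvd (Nat.pos_of_ne_zero (hK k hi).1) hd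
    have := (hK k hi).2
    omega
  -- `a` is a power of `a ^ k`
  obtain ⟨j, hj⟩ : ∃ j : ℕ, a = (a ^ k) ^ j := by
    have h := Nat.Coprime.orderOf_pow (y := a) (m := k) (by rw [ha]; exact hcop)
    have hz : Subgroup.zpowers (a ^ k) = Subgroup.zpowers a :=
      Subgroup.eq_of_le_of_card_ge ((Subgroup.zpowers_le).2 (Subgroup.pow_mem _ (Subgroup.mem_zpowers a) _))
        (by rw [Nat.card_zpowers, Nat.card_zpowers, h])
    have hm : a ∈ Subgroup.zpowers (a ^ k) := hz ▸ Subgroup.mem_zpowers a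
    rw [← mem_powers_iff_mem_zpowers] at hm
    obtain ⟨j, hj⟩ := hm
    exact ⟨j, hj.symm⟩
  have hψb' : ψ b * a * (ψ b)⁻¹ = a ^ r := by
    calc ψ b * a * (ψ b)⁻¹ = ψ b * (a ^ k) ^ j * (ψ b)⁻¹ := by rw [← hj]
      _ = ((a ^ r) ^ k) ^ j := by rw [← conj_pow, hψb]
      _ = ((a ^ k) ^ j) ^ r := by simp only [← pow_mul]; congr 1; ring
      _ = a ^ r := by rw [← hj]
  have hc : b⁻¹ * ψ b ∈ Subgroup.zpowers a := hcent _ (by
    have : ψ b * a = a ^ r * ψ b := by rw [← hψb']; group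
    calc b⁻¹ * ψ b * a = b⁻¹ * (ψ b * a) := by group
      _ = b⁻¹ * (b * a * b⁻¹) * ψ b := by rw [this, hba]; group
      _ = a * (b⁻¹ * ψ b) := by group)
  rw [← mem_powers_iff_mem_zpowers] at hc
  obtain ⟨m₀, hm₀⟩ := hc
  obtain ⟨n, -, hn⟩ := hshift (m₀ % p) (Nat.mod_lt _ hpp.pos)
  have hcomm : ∀ z : G, z * a = a * z → a ^ n * z * (a ^ n)⁻¹ = z := fun z hz => by
    rw [((show Commute a z from hz.symm).pow_left n).eq, mul_inv_cancel_right]
  refine ⟨a ^ n * (b ^ i * g₁), ?_, k, hi, ?_⟩ <;>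
    rw [map_mul, mul_assoc, ← hψ, MulAut.mul_apply, MulAut.conj_apply]
  · have hb' : ψ b = b * a ^ (m₀ % p) := by
      rw [← ha, pow_mod_orderOf]
      calc ψ b = b * (b⁻¹ * ψ b) := by group
        _ = _ := by rw [← hm₀]
    have h1 : a ^ (r * n) = a ^ (r * (m₀ % p) + n) := by
      rw [← pow_mod_orderOf a (r * n), ← pow_mod_orderOf a (r * (m₀ % p) + n), ha, hn]
    have hba' : ∀ k : ℕ, b * a ^ k = a ^ (r * k) * b := fun k => by
      rw [pow_mul, ← hba, conj_pow]; group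
    rw [mul_inv_eq_iff_eq_mul, hb', hba', hba', h1, add_comm, pow_add, mul_assoc]
  · rw [hψa]
    exact hcomm _ (by rw [← pow_succ, ← pow_succ'])

end CfsgLib.SporadicOut
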