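import Cfsg.Agent.Lib.SporadicOut.Scheme
import Cfsg.Prelude.Def_KGroupFacts

/-!
Automorphisms of presented groups with a permutation certificate.
-/

set_option autoImplicit false

namespace CfsgLib.SporadicOut

open CfsgLib.SporRecognition.CosetCert

variable {α : Type*} {rels : Set (FreeGroup α)} {WH : List (List (α × Bool))} {n : Nat} [NeZero n]
  {tabs : α → Bool → Nat → Nat}

/-- The generators have the tables of the certificate. -/
theorem hasTab_of (C : Certified rels WH n tabs) (a : α) :
    HasTab C.hom (PresentedGroup.of (rels := rels) a) (tabs a true) := by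
  intro u
  rw [show C.hom (PresentedGroup.of (rels := rels) a) = tabPerm C.tables a from
    PresentedGroup.toGroup.of C.rels_ok]
  exact tabPerm_val C.tables a u

theorem realised_of_hasTab {G : Type*} [Group G] {ρ : G →* Equiv.Perm (Fin n)} {g : G}
    {t : Nat → Nat} (h : HasTab ρ g t) : Realised ρ.range t :=
  ⟨ρ g, ⟨g, rfl⟩, h⟩

/-- The representation is faithful when the group is simple. -/
theorem hom_injective (C : Certified rels WH n tabs) (hs : IsSimpleGroup (PresentedGroup rels))
    (hn : 1 < n) : Function.Injective C.hom := by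
  rw [← MonoidHom.ker_eq_bot_iff]
  refine (hs.eq_bot_or_eq_top_of_normal C.hom.ker inferInstance).resolve_right fun htop => ?_
  obtain ⟨e, he, he0⟩ := C.exists_equiv
  obtain ⟨g, hg⟩ := QuotientGroup.mk_surjective (e.symm ⟨1, hn⟩)
  have h1 := he g ((1 : PresentedGroup rels) : PresentedGroup rels ⧸ wordSubgroup rels WH)
  rw [he0, MonoidHom.mem_ker.mp (htop ▸ Subgroup.mem_top g), MulAction.Quotient.smul_coe,
    smul_eq_mul, mul_one, hg, Equiv.apply_symm_apply] at h1
  have := congrArg Fin.val h1
  simp at this

/-- Labels of suborbits are invariant under the stabiliser of the base point. -/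
theorem lab_stab (C : Certified rels WH n tabs) (ts : List (Nat → Nat))
    (hts : ∀ j, (hj : j < WH.length) → ∀ u, u < n → sel ts j u = trace (wordTabs tabs WH[j]) u)
    (lab : Nat → Nat) (hlab : ∀ j, j < WH.length → ∀ u, u < n → lab (sel ts j u) = lab u) :
    ∀ q ∈ C.hom.range, q 0 = 0 → ∀ u : Fin n, lab (q u : Fin n) = lab u := by
  rintro _ ⟨g, rfl⟩ h0
  obtain ⟨e, he, he0⟩ := C.exists_equiv
  have hg : g ∈ wordSubgroup rels WH := by
    have h1 := he g ((1 : PresentedGroup rels) : PresentedGroup rels ⧸ wordSubgroup rels WH)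
    rw [he0, h0, ← he0, e.injective.eq_iff, MulAction.Quotient.smul_coe, smul_eq_mul, mul_one,
      QuotientGroup.eq, mul_one, Subgroup.inv_mem_iff] at h1
    exact h1
  clear h0
  induction hg using Subgroup.closure_induction with
  | mem x hx =>
    obtain ⟨w, hw, rfl⟩ := List.mem_map.mp hx
    obtain ⟨j, hj, rfl⟩ := List.getElem_of_mem hw
    intro u
    rw [C.hom_evalW, evalW_tabPerm, ← hts j hj u u.2]
    exact hlab j hj u u.2
  | one => simp
  | mul x y _ _ hx hy => intro u; rw [map_mul, Equiv.Perm.mul_apply, hx, hy]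
  | inv x _ hx =>
    intro u
    have := hx ((C.hom x)⁻¹ u)
    rw [show C.hom x ((C.hom x)⁻¹ u) = u from Equiv.apply_symm_apply _ u] at this
    rw [map_inv]
    exact this.symm

/-- An endomorphism given on generators by tables satisfying the relators is an automorphism. -/
theorem exists_aut (C : Certified rels WH n tabs) [Finite (PresentedGroup rels)]
    (hs : IsSimpleGroup (PresentedGroup rels)) (hn : 1 < n) {tabs' : α → Bool → Nat → Nat}
    (hT : TablesOK tabs' n) (f : α → PresentedGroup rels)
    (hf : ∀ a, HasTab C.hom (f a) (tabs' a true))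
    (hrel : ∀ r ∈ rels, FreeGroup.lift (tabPerm hT) r = 1) {a₀ : α} (hne : f a₀ ≠ 1) :
    ∃ σ : MulAut (PresentedGroup rels), ∀ a, σ (PresentedGroup.of a) = f a := by
  have hinj := hom_injective C hs hn
  have hcomp : C.hom.comp (FreeGroup.lift f) = FreeGroup.lift (tabPerm hT) := by
    apply FreeGroup.ext_hom
    intro a
    rw [MonoidHom.comp_apply, FreeGroup.lift_apply_of, FreeGroup.lift_apply_of]
    exact Equiv.ext fun u => Fin.ext (by rw [hf a u]; rfl)
  have hr : ∀ r ∈ rels, FreeGroup.lift f r = 1 := fun r h => hinj (by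
    rw [map_one, ← hrel r h, ← hcomp]; rfl)
  set F := PresentedGroup.toGroup hr with hF
  have hFi : Function.Injective F := by
    rw [← MonoidHom.ker_eq_bot_iff]
    refine (hs.eq_bot_or_eq_top_of_normal F.ker inferInstance).resolve_right fun htop => hne ?_
    have := MonoidHom.mem_ker.mp (htop ▸ Subgroup.mem_top (PresentedGroup.of a₀) : _ ∈ F.ker)
    rwa [hF, PresentedGroup.toGroup.of] at this
  exact ⟨MulEquiv.ofBijective F (Finite.injective_iff_bijective.mp hFi),
    fun a => PresentedGroup.toGroup.of hr⟩

/-- An automorphism fixing elements whose words give all generators is trivial. -/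
theorem eq_one_of_fix {φ : MulAut (PresentedGroup rels)} {gs : List (PresentedGroup rels)}
    (hgen : ∀ a, ∃ w, PresentedGroup.of (rels := rels) a = wVal gs w)
    (hfix : ∀ g ∈ gs, φ g = g) : φ = 1 := by
  have hmap : gs.map (φ : PresentedGroup rels →* PresentedGroup rels) = gs := by
    conv_rhs => rw [← List.map_id gs]
    exact List.map_congr_left fun g hg => hfix g hg
  have : (φ : PresentedGroup rels →* PresentedGroup rels) = MonoidHom.id _ := by
    apply PresentedGroup.ext
    intro a
    obtain ⟨w, hw⟩ := hgen a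
    rw [hw, map_wVal, hmap]
    rfl
  exact MulEquiv.ext fun g => DFunLike.congr_fun this g

/-- The outer automorphism group has order two. -/
theorem natCard_out_eq_two {G : Type*} [Group G] (σ : MulAut G) (hσ : σ ∉ Cfsg.Inn G)
    (h : ∀ φ : MulAut G, ∃ g : G, MulAut.conj g * φ = 1 ∨ MulAut.conj g * φ = σ) :
    Nat.card (Cfsg.Out G) = 2 := by
  rw [Nat.card_eq_two_iff]
  refine ⟨QuotientGroup.mk 1, QuotientGroup.mk σ, fun he => hσ ?_,
    Set.eq_univ_of_forall fun z => ?_⟩
  · rw [QuotientGroup.eq, inv_one, one_mul] at he; exact he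
  induction z using QuotientGroup.induction_on with
  | H φ =>
    obtain ⟨g, hg⟩ := h φ
    have hinn : (QuotientGroup.mk (MulAut.conj g * φ) : Cfsg.Out G) = QuotientGroup.mk φ := by
      rw [QuotientGroup.eq, mul_inv_rev]
      exact (Cfsg.innNormal G).conj_mem' _ (inv_mem ⟨g, rfl⟩) φ
    simp only [Set.mem_insert_iff, Set.mem_singleton_iff]
    rcases hg with hg | hg <;> rw [hg] at hinn
    · exact Or.inl hinn.symm
    · exact Or.inr hinn.symm

/-- Every automorphism is inner: the outer automorphism group is trivial. -/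
theorem natCard_out_eq_one {G : Type*} [Group G]
    (h : ∀ φ : MulAut G, ∃ g : G, MulAut.conj g * φ = 1) : Nat.card (Cfsg.Out G) = 1 := by
  rw [Nat.card_eq_one_iff_unique]
  refine ⟨⟨fun x y => ?_⟩, ⟨QuotientGroup.mk 1⟩⟩
  suffices ∀ z : Cfsg.Out G, z = QuotientGroup.mk 1 from (this x).trans (this y).symm
  intro z
  induction z using QuotientGroup.induction_on with
  | H φ =>
    obtain ⟨g, hg⟩ := h φ
    rw [QuotientGroup.eq, mul_one, eq_inv_of_mul_eq_one_right hg, inv_inv]
    exact ⟨g, rfl⟩

end CfsgLib.SporadicOut
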