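import Cfsg.Agent.Lib.SporRecognition.CosetCert.Order

/-!
Orbital labels for permutation groups given by tables, and a verified search for the elements
which carry one listed element to another.
-/

set_option autoImplicit false

namespace CfsgLib.SporadicOut

open CfsgLib.SporRecognition.CosetCert

/-- Follow the tree to the point `0` and apply the same steps to a second point. -/
noncomputable def downY (step : Nat → Nat → Nat) (par : Nat → Nat) (fuel : Nat) : Nat → Nat → Nat :=
  Nat.rec (fun _ y => y)
    (fun _ ih x y => bif Nat.beq x 0 then y else ih (step (par x) x) (step (par x) y)) fuel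

/-- The point reached along the tree. -/
noncomputable def downX (step : Nat → Nat → Nat) (par : Nat → Nat) (fuel : Nat) : Nat → Nat :=
  Nat.rec (fun x => x)
    (fun _ ih x => bif Nat.beq x 0 then x else ih (step (par x) x)) fuel

/-- The label of a pair of points. -/
noncomputable def pairLab (step : Nat → Nat → Nat) (par lab : Nat → Nat) (fuel x y : Nat) : Nat :=
  lab (downY step par fuel x y)

variable {n : Nat}

theorem realised_sel {Q : Subgroup (Equiv.Perm (Fin n))} {ts : List (Nat → Nat)}
    (h : ∀ t ∈ ts, Realised Q t) (j : Nat) :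
    ∃ q ∈ Q, ∀ u : Fin n, ((q u : Fin n) : Nat) = sel ts j u := by
  by_cases hj : j < ts.length
  · obtain ⟨q, hq, he⟩ := h _ (List.getElem_mem hj)
    exact ⟨q, hq, fun u => by rw [sel_eq, List.getElem?_eq_getElem hj, Option.elim_some, he]⟩
  · exact ⟨1, one_mem _, fun u => by
      rw [sel_eq, List.getElem?_eq_none (Nat.le_of_not_lt hj), Option.elim_none]; rfl⟩

theorem exists_down {Q : Subgroup (Equiv.Perm (Fin n))} {step : Nat → Nat → Nat}
    (h : ∀ j, ∃ q ∈ Q, ∀ u : Fin n, ((q u : Fin n) : Nat) = step j u) (par : Nat → Nat)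
    (fuel : Nat) (x : Fin n) :
    ∃ q ∈ Q, ((q x : Fin n) : Nat) = downX step par fuel x ∧
      ∀ y : Fin n, ((q y : Fin n) : Nat) = downY step par fuel x y := by
  induction fuel generalizing x with
  | zero => exact ⟨1, one_mem _, rfl, fun y => rfl⟩
  | succ k ih =>
    cases h0 : Nat.beq (x : Nat) 0 with
    | true => exact ⟨1, one_mem _, by simp [downX, h0], fun y => by simp [downY, h0]⟩
    | false =>
      obtain ⟨q, hq, hqe⟩ := h (par x)
      obtain ⟨r, hr, hrx, hry⟩ := ih (q x)
      refine ⟨r * q, mul_mem hr hq, ?_, fun y => ?_⟩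
      · rw [Equiv.Perm.mul_apply, hrx, hqe]
        simp [downX, h0]
      · rw [Equiv.Perm.mul_apply, hry, hqe, hqe]
        simp [downY, h0]

/-- Labels are invariant under the group. -/
theorem pairLab_inv [NeZero n] {Q : Subgroup (Equiv.Perm (Fin n))} {step : Nat → Nat → Nat}
    (h : ∀ j, ∃ q ∈ Q, ∀ u : Fin n, ((q u : Fin n) : Nat) = step j u) (par lab : Nat → Nat)
    (fuel d : Nat)
    (hdown : allBelow d n (fun x => Nat.beq (downX step par fuel x) 0) = true)
    (hlab : ∀ q ∈ Q, q 0 = 0 → ∀ u : Fin n, lab (q u : Fin n) = lab u)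
    {g : Equiv.Perm (Fin n)} (hg : g ∈ Q) (x y : Fin n) :
    pairLab step par lab fuel (g x : Fin n) (g y : Fin n) = pairLab step par lab fuel x y := by
  obtain ⟨q, hq, hqx, hqy⟩ := exists_down h par fuel x
  obtain ⟨r, hr, hrx, hry⟩ := exists_down h par fuel (g x)
  have hq0 : q x = 0 := Fin.ext (by
    rw [hqx, Nat.eq_of_beq_eq_true (allBelow_spec hdown x x.2)]; rfl)
  have hr0 : r (g x) = 0 := Fin.ext (by
    rw [hrx, Nat.eq_of_beq_eq_true (allBelow_spec hdown _ (g x).2)]; rfl)
  have hq0' : q⁻¹ 0 = x := by rw [← hq0, Equiv.Perm.inv_def, Equiv.symm_apply_apply]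
  have := hlab (r * g * q⁻¹) (mul_mem (mul_mem hr hg) (inv_mem hq))
    (by rw [Equiv.Perm.mul_apply, Equiv.Perm.mul_apply, hq0', hr0]) (q y)
  rw [Equiv.Perm.mul_apply, Equiv.Perm.mul_apply,
    show q⁻¹ (q y) = y by rw [Equiv.Perm.inv_def, Equiv.symm_apply_apply], hry, hqy] at this
  exact this

variable {G : Type*} [Group G]

/-- The table of an element. -/
def HasTab (ρ : G →* Equiv.Perm (Fin n)) (g : G) (t : Nat → Nat) : Prop :=
  ∀ u : Fin n, ((ρ g u : Fin n) : Nat) = t u

/-- A table from a list, the identity beyond it. -/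
def getT (ts : List (Nat → Nat)) (i : Nat) : Nat → Nat := ts.getD i fun u => u

/-- The tables of a word, in order of application: the last letter acts first. -/
def wTabs (ts : List (Nat → Nat)) (w : List Nat) : List (Nat → Nat) := w.reverse.map (getT ts)

/-- The value of a word in listed elements. -/
def wVal (gs : List G) (w : List Nat) : G := (w.map fun i => gs.getD i 1).prod

theorem map_wVal {H : Type*} [Group H] (f : G →* H) (gs : List G) (w : List Nat) :
    f (wVal gs w) = wVal (gs.map f) w := by
  rw [wVal, wVal, map_list_prod, List.map_map]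
  congr 1
  refine List.map_congr_left fun i _ => ?_
  rw [Function.comp_apply, ← map_one f, List.getD_map]

/-- Tables for a whole list. -/
inductive HasTabs (ρ : G →* Equiv.Perm (Fin n)) : List G → List (Nat → Nat) → Prop
  | nil : HasTabs ρ [] []
  | cons {g t gs ts} : HasTab ρ g t → HasTabs ρ gs ts → HasTabs ρ (g :: gs) (t :: ts)

theorem HasTabs.get {ρ : G →* Equiv.Perm (Fin n)} {gs : List G} {ts : List (Nat → Nat)}
    (h : HasTabs ρ gs ts) (i : Nat) : HasTab ρ (gs.getD i 1) (getT ts i) := by
  induction h generalizing i with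
  | nil => intro u; simp [getT]
  | @cons g t gs ts hg _ ih =>
    cases i with
    | zero => intro u; simpa [getT] using hg u
    | succ i => intro u; simpa [getT] using ih i u

theorem HasTabs.wVal {ρ : G →* Equiv.Perm (Fin n)} {gs : List G} {ts : List (Nat → Nat)}
    (h : HasTabs ρ gs ts) (w : List Nat) :
    HasTab ρ (SporadicOut.wVal gs w) (trace (wTabs ts w)) := by
  induction w with
  | nil => intro u; simp [SporadicOut.wVal, wTabs]
  | cons i w ih =>
    intro u
    show ((ρ (gs.getD i 1 * SporadicOut.wVal gs w) u : Fin n) : Nat) = _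
    rw [map_mul, Equiv.Perm.mul_apply, h.get i, ih u, wTabs, wTabs, List.reverse_cons, List.map_append,
      trace_append]
    rfl

theorem HasTab.congr {ρ : G →* Equiv.Perm (Fin n)} {g : G} {t t' : Nat → Nat} (h : HasTab ρ g t)
    {d : Nat} (he : allBelow d n (fun u => Nat.beq (t' u) (t u)) = true) : HasTab ρ g t' :=
  fun u => by rw [h u, Nat.eq_of_beq_eq_true (allBelow_spec he u u.2)]

theorem HasTab.eq {ρ : G →* Equiv.Perm (Fin n)} (hρ : Function.Injective ρ) {g g' : G}
    {t t' : Nat → Nat} (h : HasTab ρ g t) (h' : HasTab ρ g' t') {d : Nat}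
    (he : allBelow d n (fun u => Nat.beq (t u) (t' u)) = true) : g = g' :=
  hρ (Equiv.ext fun u => Fin.ext (by
    rw [h u, h' u, Nat.eq_of_beq_eq_true (allBelow_spec he u u.2)]))

theorem HasTab.ne {ρ : G →* Equiv.Perm (Fin n)} {g g' : G}
    {t t' : Nat → Nat} (h : HasTab ρ g t) (h' : HasTab ρ g' t') {u : Nat} (hu : u < n)
    (he : Nat.beq (t u) (t' u) = false) : g ≠ g' := by
  rintro rfl
  have := (h ⟨u, hu⟩).symm.trans (h' ⟨u, hu⟩)
  simp only at this
  rw [this] at he
  simp at he

theorem HasTab.inv {ρ : G →* Equiv.Perm (Fin n)} {g : G} {t t' : Nat → Nat} (h : HasTab ρ g t)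
    {d : Nat} (he : allBelow d n (invStep t t' n) = true) : HasTab ρ g⁻¹ t' := by
  intro u
  have h1 := allBelow_spec he _ ((ρ g)⁻¹ u).2
  simp only [invStep, Bool.and_eq_true] at h1
  rw [← h, show ρ g ((ρ g)⁻¹ u) = u from Equiv.apply_symm_apply _ u] at h1
  rw [map_inv]
  exact (Nat.eq_of_beq_eq_true h1.2).symm

/-- Composed tables, checked against recorded tables. -/
noncomputable def tabsChk (d n : Nat) (wts : List (List (Nat → Nat))) : List (Nat → Nat) → Bool :=
  List.rec (fun tws => tws.isEmpty)
    (fun l _ ih tws => match tws with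
      | [] => false
      | t :: tws => allBelow d n (fun u => Nat.beq (t u) (trace l u)) && ih tws) wts

theorem HasTabs.map_wVal {ρ : G →* Equiv.Perm (Fin n)} {gs : List G} {ts : List (Nat → Nat)}
    (h : HasTabs ρ gs ts) {d : Nat} : ∀ {ws : List (List Nat)} {wts : List (List (Nat → Nat))}
    {tws : List (Nat → Nat)}, tabsChk d n wts tws = true → wts = ws.map (wTabs ts) →
    HasTabs ρ (ws.map (SporadicOut.wVal gs)) tws
  | [], _, [], _, rfl => .nil
  | [], _, t :: tws, hc, rfl => by simp [tabsChk] at hc
  | w :: ws, _, [], hc, rfl => by simp [tabsChk] at hc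
  | w :: ws, _, t :: tws, hc, rfl => by
    change (allBelow d n (fun u => Nat.beq (t u) (trace (wTabs ts w) u)) &&
      tabsChk d n (ws.map (wTabs ts)) tws) = true at hc
    rw [Bool.and_eq_true] at hc
    exact .cons ((h.wVal w).congr hc.1) (HasTabs.map_wVal h hc.2 rfl)

/-- The pairs forced along an orbit. -/
noncomputable def orbitPairs (t t' : Nat → Nat) : Nat → Nat → Nat → List (Nat × Nat) :=
  fun k => Nat.rec (fun _ _ => []) (fun _ ih x y => (x, y) :: ih (t x) (t' y)) k

/-- Compatibility of a new pair with known pairs. -/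
noncomputable def compat (L : Nat → Nat → Nat) (x y : Nat) (P : List (Nat × Nat)) : Bool :=
  List.rec true (fun p _ ih => Nat.beq (L p.1 x) (L p.2 y) && ih) P

theorem compat_of_forall {L : Nat → Nat → Nat} {x y : Nat} :
    ∀ {P : List (Nat × Nat)}, (∀ p ∈ P, L p.1 x = L p.2 y) → compat L x y P = true
  | [], _ => rfl
  | p :: P, h => by
    show (Nat.beq (L p.1 x) (L p.2 y) && compat L x y P) = true
    rw [h p List.mem_cons_self, compat_of_forall fun q hq => h q (List.mem_cons_of_mem _ hq)]
    simp

/-- The pairs forced by the images of some base points. -/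
noncomputable def pairsOf (t t' : Nat → Nat) : List (Nat × Nat) → List Nat → List (Nat × Nat)
  | q :: qs, y :: ys => orbitPairs t t' q.2 (t q.1) (t' y) ++ pairsOf t t' qs ys
  | _, _ => []

/-- One node of the search: the compatible images of the next point are listed. -/
noncomputable def nodeChk (d n : Nat) (L : Nat → Nat → Nat) (t t' : Nat → Nat)
    (prev : List (Nat × Nat)) (q : Nat × Nat) (out : List (List Nat)) (img : List Nat) : Bool :=
  allBelow d n fun y =>
    bif compat L q.1 y (pairsOf t t' prev img ++ orbitPairs t t' q.2 (t q.1) (t' y)) then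
      out.any (fun l => l == img ++ [y]) else true

/-- The stages of a search, each node checked separately. -/
inductive Staged (d n : Nat) (L : Nat → Nat → Nat) (t t' : Nat → Nat) :
    List (Nat × Nat) → List (List Nat) → List (Nat × Nat) → List (List Nat) → Prop
  | done {prev S} : Staged d n L t t' prev S [] S
  | next {prev S q S' qs out} : q.1 < n → (∀ img ∈ S, nodeChk d n L t t' prev q S' img = true) →
      Staged d n L t t' (prev ++ [q]) S' qs out → Staged d n L t t' prev S (q :: qs) out

/-- `g` extends the pairs. -/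
def Ext (g : Equiv.Perm (Fin n)) (P : List (Nat × Nat)) : Prop :=
  ∀ p ∈ P, ∃ x : Fin n, (x : Nat) = p.1 ∧ ((g x : Fin n) : Nat) = p.2

theorem ext_orbitPairs {ρ : G →* Equiv.Perm (Fin n)} {g a a' : G} {t t' : Nat → Nat}
    (ha : HasTab ρ a t) (ha' : HasTab ρ a' t') (hg : g * a = a' * g) :
    ∀ (k : Nat) (x : Fin n), Ext (ρ g) (orbitPairs t t' k x (ρ g x : Fin n)) := by
  intro k
  induction k with
  | zero => intro x p hp; simp [orbitPairs] at hp
  | succ k ih =>
    intro x p hp
    change p ∈ ((x : Nat), ((ρ g x : Fin n) : Nat)) :: orbitPairs t t' k (t x) (t' (ρ g x : Fin n)) at hp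
    rcases List.mem_cons.1 hp with rfl | hp
    · exact ⟨x, rfl, rfl⟩
    · have h1 : ρ g (ρ a x) = ρ a' (ρ g x) := by
        rw [← Equiv.Perm.mul_apply, ← map_mul, hg, map_mul, Equiv.Perm.mul_apply]
      rw [← ha x, ← ha' (ρ g x), ← h1] at hp
      exact ih _ p hp

/-- The images of the base points are among the leaves. -/
theorem staged_sound {ρ : G →* Equiv.Perm (Fin n)} {L : Nat → Nat → Nat} {g a a' : G}
    {t t' : Nat → Nat} {d : Nat}
    (hL : ∀ x y : Fin n, L (ρ g x : Fin n) (ρ g y : Fin n) = L x y)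
    (ha : HasTab ρ a t) (ha' : HasTab ρ a' t') (hg : g * a = a' * g)
    {prev : List (Nat × Nat)} {S : List (List Nat)} {qs : List (Nat × Nat)}
    {out : List (List Nat)} (h : Staged d n L t t' prev S qs out) :
    ∀ img ∈ S, img.length = prev.length →
      (∀ r ∈ prev.zip img, ∃ x : Fin n, (x : Nat) = r.1.1 ∧ ((ρ g x : Fin n) : Nat) = r.2) →
      ∃ l ∈ out, ∀ r ∈ (prev ++ qs).zip l,
        ∃ x : Fin n, (x : Nat) = r.1.1 ∧ ((ρ g x : Fin n) : Nat) = r.2 := by
  induction h with
  | @done prev S => exact fun img hi _ hp => ⟨img, hi, by simpa using hp⟩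
  | @next prev S q S' qs out hq hchk _ ih =>
    intro img hi hlen hp
    set x : Fin n := ⟨q.1, hq⟩ with hx
    have hy := allBelow_spec (hchk img hi) _ (ρ g x).2
    have hprev : ∀ (pv : List (Nat × Nat)) (im : List Nat),
        (∀ r ∈ pv.zip im, ∃ z : Fin n, (z : Nat) = r.1.1 ∧ ((ρ g z : Fin n) : Nat) = r.2) →
        Ext (ρ g) (pairsOf t t' pv im) := by
      intro pv
      induction pv with
      | nil => intro im _ p hp; simp [pairsOf] at hp
      | cons r pv ihp =>
        intro im him p hp
        cases im with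
        | nil => simp [pairsOf] at hp
        | cons y im =>
          obtain ⟨z, hz, hzy⟩ := him (r, y) (by simp)
          simp only [pairsOf, List.mem_append] at hp
          rcases hp with hp | hp
          · simp only at hz hzy
            have h1 : ρ g (ρ a z) = ρ a' (ρ g z) := by
              rw [← Equiv.Perm.mul_apply, ← map_mul, hg, map_mul, Equiv.Perm.mul_apply]
            rw [← hz, ← hzy, ← ha z, ← ha' (ρ g z), ← h1] at hp
            exact ext_orbitPairs ha ha' hg r.2 _ p hp
          · exact ihp im (fun w hw => him w (by simp [hw])) p hp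
    have hext : Ext (ρ g)
        (pairsOf t t' prev img ++ orbitPairs t t' q.2 (t q.1) (t' (ρ g x : Fin n))) := fun p hp' => by
      rcases List.mem_append.1 hp' with hp' | hp'
      · exact hprev prev img hp p hp'
      · have h1 : ρ g (ρ a x) = ρ a' (ρ g x) := by
          rw [← Equiv.Perm.mul_apply, ← map_mul, hg, map_mul, Equiv.Perm.mul_apply]
        rw [← ha x, ← ha' (ρ g x), ← h1] at hp'
        exact ext_orbitPairs ha ha' hg q.2 _ p hp'
    have hc : compat L q.1 (ρ g x : Fin n)
        (pairsOf t t' prev img ++ orbitPairs t t' q.2 (t q.1) (t' (ρ g x : Fin n))) = true :=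
      compat_of_forall fun p hp' => by
        obtain ⟨z, hz1, hz2⟩ := hext p hp'
        rw [← hz1, ← hz2, hL z x]
    rw [hc, cond_true] at hy
    simp only [List.any_eq_true, beq_iff_eq] at hy
    obtain ⟨img', himg', rfl⟩ := hy
    obtain ⟨l, hl, hll⟩ := ih _ himg' (by simp [hlen]) (fun r hr => by
      rw [List.zip_append hlen.symm, List.mem_append] at hr
      rcases hr with hr | hr
      · exact hp r hr
      · simp at hr
        exact ⟨x, by rw [hr], by rw [hr]⟩)
    exact ⟨l, hl, by simpa using hll⟩

/-- The label vector of a point. -/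
noncomputable def labKey (L : Nat → Nat → Nat) (S : List Nat) (u : Nat) : Nat :=
  List.rec 0 (fun s _ ih => Nat.add (L s u) (Nat.mul 16 ih)) S

theorem labKey_congr {L : Nat → Nat → Nat} {u v : Nat} :
    ∀ {S : List Nat}, (∀ s ∈ S, L s u = L s v) → labKey L S u = labKey L S v
  | [], _ => rfl
  | s :: S, h => by
    show Nat.add (L s u) (Nat.mul 16 (labKey L S u)) = Nat.add (L s v) (Nat.mul 16 (labKey L S v))
    rw [h s List.mem_cons_self, labKey_congr fun q hq => h q (List.mem_cons_of_mem _ hq)]

/-- The recorded key of a point. -/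
noncomputable def keyStep (L : Nat → Nat → Nat) (S : List Nat) (key : Nat → Nat) (u : Nat) : Bool :=
  Nat.beq (labKey L S u) (key u)

/-- The points are separated: `ord` lists them with increasing keys. -/
noncomputable def sepStep (key ord pos : Nat → Nat) (n i : Nat) : Bool :=
  Nat.blt (pos i) n && Nat.beq (ord (pos i)) i &&
    bif Nat.blt (Nat.add i 1) n then Nat.blt (key (ord i)) (key (ord (Nat.add i 1))) else true

theorem sep_spec {L : Nat → Nat → Nat} {S : List Nat} {key ord pos : Nat → Nat} {d : Nat}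
    (hkey : ∀ u, u < n → keyStep L S key u = true)
    (h : allBelow d n (sepStep key ord pos n) = true) {u v : Fin n}
    (he : labKey L S u = labKey L S v) : u = v := by
  have he' : key u = key v := by
    rw [← Nat.eq_of_beq_eq_true (hkey u u.2), he, Nat.eq_of_beq_eq_true (hkey v v.2)]
  have hs : ∀ i < n, (pos i < n ∧ ord (pos i) = i) ∧
      (i + 1 < n → key (ord i) < key (ord (i + 1))) := by
    intro i hi
    have := allBelow_spec h i hi
    simp only [sepStep, Bool.and_eq_true] at this
    refine ⟨⟨by simpa [Nat.blt_eq] using this.1.1, Nat.eq_of_beq_eq_true this.1.2⟩, fun hi' => ?_⟩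
    have hb : Nat.blt (Nat.add i 1) n = true := by simp [Nat.blt_eq, hi']
    rw [hb, cond_true] at this
    simpa [Nat.blt_eq] using this.2
  have hmono : ∀ i j, i < j → j < n → key (ord i) < key (ord j) := by
    intro i j hij
    induction j, hij using Nat.le_induction with
    | base => exact fun hj => (hs i (by omega)).2 hj
    | succ j hj ih => exact fun hj' => (ih (by omega)).trans ((hs j (by omega)).2 hj')
  have hp : pos u = pos v := by
    rcases lt_trichotomy (pos u) (pos v) with hl | hl | hl
    · have := hmono _ _ hl (hs v v.2).1.1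
      rw [(hs u u.2).1.2, (hs v v.2).1.2, he'] at this
      exact absurd this (lt_irrefl _)
    · exact hl
    · have := hmono _ _ hl (hs u u.2).1.1
      rw [(hs u u.2).1.2, (hs v v.2).1.2, he'] at this
      exact absurd this (lt_irrefl _)
  exact Fin.ext (by rw [← (hs u u.2).1.2, hp, (hs v v.2).1.2])

/-- Every point of `S` lies on the orbit of one of the listed points. -/
noncomputable def coverChk (t : Nat → Nat) (qs : List (Nat × Nat)) (S : List Nat) : Bool :=
  S.all fun s => qs.any fun q => (orbitPairs t t q.2 q.1 q.1).any fun p => Nat.beq p.1 s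

theorem eq_of_agree {ρ : G →* Equiv.Perm (Fin n)} (hρ : Function.Injective ρ)
    {L : Nat → Nat → Nat} (hL : ∀ (g : G) (x y : Fin n), L (ρ g x : Fin n) (ρ g y : Fin n) = L x y)
    {g h a a' : G} {t : Nat → Nat} (ha : HasTab ρ a t) (hg : g * a = a' * g) (hh : h * a = a' * h)
    {S : List Nat} {key ord pos : Nat → Nat} {d : Nat}
    (hkey : ∀ u, u < n → keyStep L S key u = true)
    (hsep : allBelow d n (sepStep key ord pos n) = true) {qs : List (Nat × Nat)}
    (hcov : coverChk t qs S = true)
    (hqs : ∀ q ∈ qs, ∃ x : Fin n, (x : Nat) = q.1 ∧ ρ g x = ρ h x) : g = h := by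
  have hcomm : ∀ x : Fin n, ρ g x = ρ h x → ρ g (ρ a x) = ρ h (ρ a x) := fun x hx => by
    rw [← Equiv.Perm.mul_apply, ← Equiv.Perm.mul_apply, ← map_mul, ← map_mul, hg, hh, map_mul,
      map_mul, Equiv.Perm.mul_apply, Equiv.Perm.mul_apply, hx]
  have horb : ∀ (k : Nat) (x : Fin n), ρ g x = ρ h x →
      ∀ p ∈ orbitPairs t t k x x, ∃ z : Fin n, (z : Nat) = p.1 ∧ ρ g z = ρ h z := by
    intro k
    induction k with
    | zero => intro x _ p hp; simp [orbitPairs] at hp
    | succ k ih =>
      intro x hx p hp
      change p ∈ ((x : Nat), (x : Nat)) :: orbitPairs t t k (t x) (t x) at hp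
      rcases List.mem_cons.1 hp with rfl | hp
      · exact ⟨x, rfl, hx⟩
      · rw [← ha x] at hp
        exact ih _ (hcomm x hx) p hp
  have hS : ∀ s ∈ S, ∃ z : Fin n, (z : Nat) = s ∧ ρ g z = ρ h z := by
    intro s hs
    simp only [coverChk, List.all_eq_true, List.any_eq_true] at hcov
    obtain ⟨q, hq, p, hp, hps⟩ := hcov s hs
    obtain ⟨x, hx, hxe⟩ := hqs q hq
    rw [← hx] at hp
    obtain ⟨z, hz, hze⟩ := horb q.2 x hxe p hp
    exact ⟨z, hz.trans (Nat.eq_of_beq_eq_true hps), hze⟩
  refine hρ (Equiv.ext fun u => ?_)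
  have : (ρ h)⁻¹ (ρ g u) = u := by
    refine (sep_spec hkey hsep (labKey_congr fun s hs => ?_)).symm
    obtain ⟨z, rfl, hz⟩ := hS s hs
    rw [← hL g z u, hz]
    conv_lhs => rw [show ρ g u = ρ h ((ρ h)⁻¹ (ρ g u)) from (Equiv.apply_symm_apply _ _).symm]
    rw [hL h]
  conv_rhs => rw [← this]
  exact (Equiv.apply_symm_apply _ _).symm

/-- The intertwiners of two elements are the listed ones. -/
theorem mem_of_search {ρ : G →* Equiv.Perm (Fin n)} (hρ : Function.Injective ρ)
    {L : Nat → Nat → Nat} (hL : ∀ (g : G) (x y : Fin n), L (ρ g x : Fin n) (ρ g y : Fin n) = L x y)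
    {a a' : G} {t t' : Nat → Nat} (ha : HasTab ρ a t) (ha' : HasTab ρ a' t')
    {qs : List (Nat × Nat)} {leaves : List (List Nat)} {d : Nat}
    (hsearch : Staged d n L t t' [] [[]] qs leaves)
    {S : List Nat} {key ord pos : Nat → Nat}
    (hkey : ∀ u, u < n → keyStep L S key u = true)
    (hsep : allBelow d n (sepStep key ord pos n) = true) (hcov : coverChk t qs S = true)
    {hs : List G} {ths : List (Nat → Nat)} (hhs : HasTabs ρ hs ths)
    (hleaves : leaves = ths.map fun th => qs.map fun q => th q.1)
    (hcomm : ∀ h ∈ hs, h * a = a' * h) {g : G} (hg : g * a = a' * g) : g ∈ hs := by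
  obtain ⟨l, hl, hys⟩ := staged_sound (fun x y => hL g x y) ha ha' hg hsearch [] (by simp) rfl
    (by simp)
  rw [List.nil_append] at hys
  rw [hleaves, List.mem_map] at hl
  obtain ⟨th, hth, rfl⟩ := hl
  obtain ⟨h, hh, hht⟩ : ∃ h ∈ hs, HasTab ρ h th := by
    clear hleaves hcomm hys
    induction hhs with
    | nil => simp at hth
    | cons hg' _ ih =>
      rcases List.mem_cons.1 hth with rfl | hth
      · exact ⟨_, List.mem_cons_self, hg'⟩
      · obtain ⟨h, hh, hht⟩ := ih hth
        exact ⟨h, List.mem_cons_of_mem _ hh, hht⟩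
  have : g = h := by
    refine eq_of_agree hρ hL ha hg (hcomm h hh) hkey hsep hcov fun q hq => ?_
    have hq' : (q, th q.1) ∈ qs.zip (qs.map fun q => th q.1) := by
      obtain ⟨i, hi, rfl⟩ := List.getElem_of_mem hq
      exact List.mem_iff_getElem.2 ⟨i, by simp [hi], by simp⟩
    obtain ⟨x, hx, hxe⟩ := hys _ hq'
    exact ⟨x, hx, Fin.ext (by rw [hxe, hht x]; simp [hx])⟩
  exact this ▸ hh

end CfsgLib.SporadicOut
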