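import Cfsg.Agent.Lib.SporadicOut.Fi22StageA

/-! Checks of a search for the automorphisms of the Fischer group Fi22 on 3510 points. -/

set_option autoImplicit false
set_option maxRecDepth 20000
set_option linter.all false
set_option Elab.async false

namespace CfsgLib.SporadicOut.Fi22

open CfsgLib.SporRecognition.CosetCert
open CfsgLib.SporRecognition.Cert.Fi22U (T1 T2 T3 T4 T5 T6 T7 T8 T9 lab)

theorem nodeA_0_0 : nodeChk 12 3510 lbl tA tA [] (0, 13) stageA1 [] = true := by decide +kernel

theorem nodeA_1_0 : nodeChk 12 3510 lbl tA tA [(0, 13)] (2, 13) leavesA [0] = true := by decide +kernel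

theorem nodeA_1_1 : nodeChk 12 3510 lbl tA tA [(0, 13)] (2, 13) leavesA [1] = true := by decide +kernel

theorem nodeA_1_2 : nodeChk 12 3510 lbl tA tA [(0, 13)] (2, 13) leavesA [3] = true := by decide +kernel

theorem nodeA_1_3 : nodeChk 12 3510 lbl tA tA [(0, 13)] (2, 13) leavesA [5] = true := by decide +kernel

theorem nodeA_1_4 : nodeChk 12 3510 lbl tA tA [(0, 13)] (2, 13) leavesA [21] = true := by decide +kernel

theorem nodeA_1_5 : nodeChk 12 3510 lbl tA tA [(0, 13)] (2, 13) leavesA [22] = true := by decide +kernel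

theorem nodeA_1_6 : nodeChk 12 3510 lbl tA tA [(0, 13)] (2, 13) leavesA [25] = true := by decide +kernel

theorem nodeA_1_7 : nodeChk 12 3510 lbl tA tA [(0, 13)] (2, 13) leavesA [48] = true := by decide +kernel

theorem nodeA_1_8 : nodeChk 12 3510 lbl tA tA [(0, 13)] (2, 13) leavesA [80] = true := by decide +kernel

theorem nodeA_1_9 : nodeChk 12 3510 lbl tA tA [(0, 13)] (2, 13) leavesA [102] = true := by decide +kernel

theorem nodeA_1_10 : nodeChk 12 3510 lbl tA tA [(0, 13)] (2, 13) leavesA [197] = true := by decide +kernel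

theorem nodeA_1_11 : nodeChk 12 3510 lbl tA tA [(0, 13)] (2, 13) leavesA [209] = true := by decide +kernel

theorem nodeA_1_12 : nodeChk 12 3510 lbl tA tA [(0, 13)] (2, 13) leavesA [448] = true := by decide +kernel

theorem nodeA_1_13 : nodeChk 12 3510 lbl tA tA [(0, 13)] (2, 13) leavesA [2110] = true := by decide +kernel

theorem nodeA_1_14 : nodeChk 12 3510 lbl tA tA [(0, 13)] (2, 13) leavesA [2157] = true := by decide +kernel

theorem nodeA_1_15 : nodeChk 12 3510 lbl tA tA [(0, 13)] (2, 13) leavesA [2241] = true := by decide +kernel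

theorem nodeA_1_16 : nodeChk 12 3510 lbl tA tA [(0, 13)] (2, 13) leavesA [2295] = true := by decide +kernel

theorem nodeA_1_17 : nodeChk 12 3510 lbl tA tA [(0, 13)] (2, 13) leavesA [2348] = true := by decide +kernel

theorem nodeA_1_18 : nodeChk 12 3510 lbl tA tA [(0, 13)] (2, 13) leavesA [2411] = true := by decide +kernel

theorem nodeA_1_19 : nodeChk 12 3510 lbl tA tA [(0, 13)] (2, 13) leavesA [2526] = true := by decide +kernel

theorem nodeA_1_20 : nodeChk 12 3510 lbl tA tA [(0, 13)] (2, 13) leavesA [2626] = true := by decide +kernel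

theorem nodeA_1_21 : nodeChk 12 3510 lbl tA tA [(0, 13)] (2, 13) leavesA [2627] = true := by decide +kernel

theorem nodeA_1_22 : nodeChk 12 3510 lbl tA tA [(0, 13)] (2, 13) leavesA [2719] = true := by decide +kernel

theorem nodeA_1_23 : nodeChk 12 3510 lbl tA tA [(0, 13)] (2, 13) leavesA [2742] = true := by decide +kernel

theorem nodeA_1_24 : nodeChk 12 3510 lbl tA tA [(0, 13)] (2, 13) leavesA [2762] = true := by decide +kernel

theorem nodeA_1_25 : nodeChk 12 3510 lbl tA tA [(0, 13)] (2, 13) leavesA [2766] = true := by decide +kernel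

theorem nodeA_1_26 : nodeChk 12 3510 lbl tA tA [(0, 13)] (2, 13) leavesA [2770] = true := by decide +kernel

theorem nodeA_1_27 : nodeChk 12 3510 lbl tA tA [(0, 13)] (2, 13) leavesA [2806] = true := by decide +kernel

theorem nodeA_1_28 : nodeChk 12 3510 lbl tA tA [(0, 13)] (2, 13) leavesA [2834] = true := by decide +kernel

theorem nodeA_1_29 : nodeChk 12 3510 lbl tA tA [(0, 13)] (2, 13) leavesA [2849] = true := by decide +kernel

theorem nodeA_1_30 : nodeChk 12 3510 lbl tA tA [(0, 13)] (2, 13) leavesA [2886] = true := by decide +kernel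

theorem nodeA_1_31 : nodeChk 12 3510 lbl tA tA [(0, 13)] (2, 13) leavesA [2983] = true := by decide +kernel

theorem nodeA_1_32 : nodeChk 12 3510 lbl tA tA [(0, 13)] (2, 13) leavesA [3108] = true := by decide +kernel

theorem nodeA_1_33 : nodeChk 12 3510 lbl tA tA [(0, 13)] (2, 13) leavesA [3184] = true := by decide +kernel

theorem nodeA_1_34 : nodeChk 12 3510 lbl tA tA [(0, 13)] (2, 13) leavesA [3213] = true := by decide +kernel

theorem nodeA_1_35 : nodeChk 12 3510 lbl tA tA [(0, 13)] (2, 13) leavesA [3218] = true := by decide +kernel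

theorem nodeA_1_36 : nodeChk 12 3510 lbl tA tA [(0, 13)] (2, 13) leavesA [3321] = true := by decide +kernel

theorem nodeA_1_37 : nodeChk 12 3510 lbl tA tA [(0, 13)] (2, 13) leavesA [3336] = true := by decide +kernel

theorem nodeA_1_38 : nodeChk 12 3510 lbl tA tA [(0, 13)] (2, 13) leavesA [3349] = true := by decide +kernel


end CfsgLib.SporadicOut.Fi22
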