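import Cfsg.Agent.Lib.SporadicOut.Fi22StageB

/-! Checks of a search for the automorphisms of the Fischer group Fi22 on 3510 points. -/

set_option autoImplicit false
set_option maxRecDepth 20000
set_option linter.all false
set_option Elab.async false

namespace CfsgLib.SporadicOut.Fi22

open CfsgLib.SporRecognition.CosetCert
open CfsgLib.SporRecognition.Cert.Fi22U (T1 T2 T3 T4 T5 T6 T7 T8 T9 lab)

theorem nodeB_0_0 : nodeChk 12 3510 lbl tB tB [] (55, 3) stageB1 [] = true := by decide +kernel

theorem nodeB_1_0 : nodeChk 12 3510 lbl tB tB [(55, 3)] (8, 6) stageB2 [55] = true := by decide +kernel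

theorem nodeB_1_1 : nodeChk 12 3510 lbl tB tB [(55, 3)] (8, 6) stageB2 [143] = true := by decide +kernel

theorem nodeB_1_2 : nodeChk 12 3510 lbl tB tB [(55, 3)] (8, 6) stageB2 [323] = true := by decide +kernel

theorem nodeB_1_3 : nodeChk 12 3510 lbl tB tB [(55, 3)] (8, 6) stageB2 [595] = true := by decide +kernel

theorem nodeB_1_4 : nodeChk 12 3510 lbl tB tB [(55, 3)] (8, 6) stageB2 [2454] = true := by decide +kernel

theorem nodeB_1_5 : nodeChk 12 3510 lbl tB tB [(55, 3)] (8, 6) stageB2 [3109] = true := by decide +kernel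

theorem nodeB_2_0 : nodeChk 12 3510 lbl tB tB [(55, 3), (8, 6)] (441, 6) leavesB [55, 8] = true := by decide +kernel

theorem nodeB_2_1 : nodeChk 12 3510 lbl tB tB [(55, 3), (8, 6)] (441, 6) leavesB [55, 23] = true := by decide +kernel

theorem nodeB_2_2 : nodeChk 12 3510 lbl tB tB [(55, 3), (8, 6)] (441, 6) leavesB [55, 42] = true := by decide +kernel

theorem nodeB_2_3 : nodeChk 12 3510 lbl tB tB [(55, 3), (8, 6)] (441, 6) leavesB [55, 68] = true := by decide +kernel

theorem nodeB_2_4 : nodeChk 12 3510 lbl tB tB [(55, 3), (8, 6)] (441, 6) leavesB [55, 252] = true := by decide +kernel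

theorem nodeB_2_5 : nodeChk 12 3510 lbl tB tB [(55, 3), (8, 6)] (441, 6) leavesB [55, 411] = true := by decide +kernel

theorem nodeB_2_6 : nodeChk 12 3510 lbl tB tB [(55, 3), (8, 6)] (441, 6) leavesB [55, 536] = true := by decide +kernel

theorem nodeB_2_7 : nodeChk 12 3510 lbl tB tB [(55, 3), (8, 6)] (441, 6) leavesB [55, 537] = true := by decide +kernel

theorem nodeB_2_8 : nodeChk 12 3510 lbl tB tB [(55, 3), (8, 6)] (441, 6) leavesB [55, 598] = true := by decide +kernel

theorem nodeB_2_9 : nodeChk 12 3510 lbl tB tB [(55, 3), (8, 6)] (441, 6) leavesB [55, 656] = true := by decide +kernel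

theorem nodeB_2_10 : nodeChk 12 3510 lbl tB tB [(55, 3), (8, 6)] (441, 6) leavesB [55, 774] = true := by decide +kernel

theorem nodeB_2_11 : nodeChk 12 3510 lbl tB tB [(55, 3), (8, 6)] (441, 6) leavesB [55, 776] = true := by decide +kernel

theorem nodeB_2_12 : nodeChk 12 3510 lbl tB tB [(55, 3), (8, 6)] (441, 6) leavesB [55, 877] = true := by decide +kernel

theorem nodeB_2_13 : nodeChk 12 3510 lbl tB tB [(55, 3), (8, 6)] (441, 6) leavesB [55, 921] = true := by decide +kernel

theorem nodeB_2_14 : nodeChk 12 3510 lbl tB tB [(55, 3), (8, 6)] (441, 6) leavesB [55, 1038] = true := by decide +kernel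

theorem nodeB_2_15 : nodeChk 12 3510 lbl tB tB [(55, 3), (8, 6)] (441, 6) leavesB [55, 1045] = true := by decide +kernel

theorem nodeB_2_16 : nodeChk 12 3510 lbl tB tB [(55, 3), (8, 6)] (441, 6) leavesB [55, 1143] = true := by decide +kernel

theorem nodeB_2_17 : nodeChk 12 3510 lbl tB tB [(55, 3), (8, 6)] (441, 6) leavesB [55, 1266] = true := by decide +kernel

theorem nodeB_2_18 : nodeChk 12 3510 lbl tB tB [(55, 3), (8, 6)] (441, 6) leavesB [55, 1365] = true := by decide +kernel

theorem nodeB_2_19 : nodeChk 12 3510 lbl tB tB [(55, 3), (8, 6)] (441, 6) leavesB [55, 1392] = true := by decide +kernel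

theorem nodeB_2_20 : nodeChk 12 3510 lbl tB tB [(55, 3), (8, 6)] (441, 6) leavesB [55, 1539] = true := by decide +kernel

theorem nodeB_2_21 : nodeChk 12 3510 lbl tB tB [(55, 3), (8, 6)] (441, 6) leavesB [55, 1607] = true := by decide +kernel

theorem nodeB_2_22 : nodeChk 12 3510 lbl tB tB [(55, 3), (8, 6)] (441, 6) leavesB [55, 1758] = true := by decide +kernel

theorem nodeB_2_23 : nodeChk 12 3510 lbl tB tB [(55, 3), (8, 6)] (441, 6) leavesB [55, 1793] = true := by decide +kernel

theorem nodeB_2_24 : nodeChk 12 3510 lbl tB tB [(55, 3), (8, 6)] (441, 6) leavesB [55, 2014] = true := by decide +kernel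

theorem nodeB_2_25 : nodeChk 12 3510 lbl tB tB [(55, 3), (8, 6)] (441, 6) leavesB [55, 2262] = true := by decide +kernel

theorem nodeB_2_26 : nodeChk 12 3510 lbl tB tB [(55, 3), (8, 6)] (441, 6) leavesB [55, 2353] = true := by decide +kernel


end CfsgLib.SporadicOut.Fi22
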