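import Cfsg.Agent.Lib.SporadicOut.Fi22Data

/-! Stages of a search for the automorphisms of the Fischer group Fi22 on 3510 points. -/

set_option autoImplicit false
set_option maxRecDepth 20000
set_option linter.all false
set_option Elab.async false

namespace CfsgLib.SporadicOut.Fi22

open CfsgLib.SporRecognition.CosetCert
open CfsgLib.SporRecognition.Cert.Fi22U (T1 T2 T3 T4 T5 T6 T7 T8 T9 lab)

def stageA1 : List (List Nat) := [[0], [1], [3], [5], [21], [22], [25], [48], [80], [102], [197], [209], [448], [2110], [2157], [2241], [2295], [2348], [2411], [2526], [2626], [2627], [2719], [2742], [2762], [2766], [2770], [2806], [2834], [2849], [2886], [2983], [3108], [3184], [3213], [3218], [3321], [3336], [3349]]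


end CfsgLib.SporadicOut.Fi22
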