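import Cfsg.Agent.Lib.SporadicOut.Fi22Data

/-! Stages of a search for the automorphisms of the Fischer group Fi22 on 3510 points. -/

set_option autoImplicit false
set_option maxRecDepth 20000
set_option linter.all false
set_option Elab.async false

namespace CfsgLib.SporadicOut.Fi22

open CfsgLib.SporRecognition.CosetCert
open CfsgLib.SporRecognition.Cert.Fi22U (T1 T2 T3 T4 T5 T6 T7 T8 T9 lab)

def stageB1 : List (List Nat) := [[55], [143], [323], [595], [2454], [3109]]

def stageB2 : List (List Nat) := [[55, 8], [55, 23], [55, 42], [55, 68], [55, 252], [55, 411], [55, 536], [55, 537], [55, 598], [55, 656], [55, 774], [55, 776], [55, 877], [55, 921], [55, 1038], [55, 1045], [55, 1143], [55, 1266], [55, 1365], [55, 1392], [55, 1539], [55, 1607], [55, 1758], [55, 1793], [55, 2014], [55, 2262], [55, 2353], [55, 2476], [55, 2955], [55, 3142], [55, 3365], [55, 3476], [143, 73], [143, 85], [143, 100], [143, 108], [143, 112], [143, 116], [143, 135], [143, 151], [143, 164], [143, 386], [143, 441], [143, 443], [143, 527], [143, 614], [143, 617], [143, 678], [143, 702], [143, 856], [143, 914], [143,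 984], [143, 1313], [143, 1379], [143, 2265], [143, 2315], [143, 2479], [143, 2565], [143, 2714], [143, 2838], [143, 2891], [143, 2951], [143, 2967], [143, 3377], [323, 402], [323, 486], [323, 533], [323, 638], [323, 689], [323, 690], [323, 694], [323, 744], [323, 749], [323, 769], [323, 1001], [323, 1111], [323, 1397], [323, 1401], [323, 1488], [323, 1560], [323, 1592], [323, 1909], [323, 1976], [323, 2092], [323, 2187], [323, 2602], [323, 2617], [323, 2698], [323, 2717], [323, 2775], [323, 2821], [323, 2899], [323, 2942], [323, 3089], [323, 3179], [323, 3238], [595, 49], [595, 115], [595, 181], [595, 211], [595, 231], [595, 246], [595, 257], [595, 280], [595, 331], [595, 356], [595, 362], [595, 405], [595, 409], [595, 573], [595, 597], [595, 600], [595, 879], [595, 883], [595, 1429], [595, 1707], [595, 1757], [595, 1776], [595, 1779], [595, 1984], [595, 1992], [595, 2363], [595, 2480], [595, 2827], [595, 2881], [595, 2974], [595, 3472], [595, 3494], [2454, 148], [2454, 178], [2454, 253], [2454, 619], [2454, 660], [2454, 675], [2454, 699], [2454, 710], [2454, 923], [2454, 941], [2454, 945],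 [2454, 1186], [2454, 1315], [2454, 1361], [2454, 1522], [2454, 1600], [2454, 1721], [2454, 1812], [2454, 1943], [2454, 1971], [2454, 2031], [2454, 2154], [2454, 2365], [2454, 2466], [2454, 2500], [2454, 2525], [2454, 2530], [2454, 2778], [2454, 2879], [2454, 2888], [2454, 3032], [2454, 3284], [3109, 271], [3109, 303], [3109, 357], [3109, 470], [3109, 1027], [3109, 1149], [3109, 1268], [3109, 1354], [3109, 1375], [3109, 1493], [3109, 1679], [3109, 1747], [3109, 1891], [3109, 1935], [3109, 2077], [3109, 2150], [3109, 2184], [3109, 2202], [3109, 2347], [3109, 2356], [3109, 2357], [3109, 2408], [3109, 2409], [3109, 2493], [3109, 2695], [3109, 2774], [3109, 2914], [3109, 3146], [3109, 3160], [3109, 3170], [3109, 3210], [3109, 3256]]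


end CfsgLib.SporadicOut.Fi22
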