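import Cfsg.Agent.Lib.SporadicOut.GraphAut

/-! Searches whose leaves are given by commuting permutations rather than checked tables. -/

set_option autoImplicit false

namespace CfsgLib.SporadicOut

open CfsgLib.SporRecognition.CosetCert

variable {n : Nat}

/-- A choice between two realised tables is realised. -/
theorem realised_bif {Q : Subgroup (Equiv.Perm (Fin n))} (c : Bool) {f g : Nat → Nat}
    (hf : ∃ q ∈ Q, ∀ u : Fin n, ((q u : Fin n) : Nat) = f u)
    (hg : ∃ q ∈ Q, ∀ u : Fin n, ((q u : Fin n) : Nat) = g u) :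
    ∃ q ∈ Q, ∀ u : Fin n, ((q u : Fin n) : Nat) = bif c then f u else g u := by
  cases c
  exacts [hg, hf]

/-- The intertwiners are realised by the listed tables. -/
theorem exists_tab_of_search_realised {L : Nat → Nat → Nat} {a a' : Equiv.Perm (Fin n)}
    {t t' : Nat → Nat}
    (ha : ∀ u : Fin n, ((a u : Fin n) : Nat) = t u) (ha' : ∀ u : Fin n, ((a' u : Fin n) : Nat) = t' u)
    {qs : List (Nat × Nat)} {leaves : List (List Nat)} {d : Nat}
    (hsearch : Staged d n L t t' [] [[]] qs leaves)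
    {S₁ S : List Nat} {key₁ key ord pos : Nat → Nat}
    (hkey₁ : ∀ u, u < n → keyStep L S₁ key₁ u = true) (huniq : uniqChk d n key₁ S = true)
    (hkey : ∀ u, u < n → keyStep L S key u = true)
    (hsep : allBelow d n (sepStep key ord pos n) = true) (hcov : coverChk t qs S₁ = true)
    {ths : List (Nat → Nat)}
    (hths : ∀ th ∈ ths, ∃ h ∈ labAut n L, (∀ u : Fin n, ((h u : Fin n) : Nat) = th u) ∧ h * a = a' * h)
    (hleaves : leaves = ths.map fun th => qs.map fun q => th q.1)
    {g : Equiv.Perm (Fin n)} (hgL : g ∈ labAut n L) (hg : g * a = a' * g) :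
    ∃ th ∈ ths, ∀ u : Fin n, ((g u : Fin n) : Nat) = th u := by
  obtain ⟨l, hl, hys⟩ := staged_sound (ρ := MonoidHom.id (Equiv.Perm (Fin n))) (a := a) (a' := a')
    hgL ha ha' hg hsearch [] (by simp) rfl (by simp)
  rw [List.nil_append] at hys
  rw [hleaves, List.mem_map] at hl
  obtain ⟨th, hth, rfl⟩ := hl
  obtain ⟨h, hhL, hht, hh⟩ := hths th hth
  have : g = h := by
    refine eq_of_agree_unique hgL hhL ha hg hh hkey₁ huniq hkey hsep hcov fun q hq => ?_
    have hq' : (q, th q.1) ∈ qs.zip (qs.map fun q => th q.1) := by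
      obtain ⟨i, hi, rfl⟩ := List.getElem_of_mem hq
      exact List.mem_iff_getElem.2 ⟨i, by simp [hi], by simp⟩
    obtain ⟨x, hx, hxe⟩ := hys _ hq'
    refine ⟨x, hx, Fin.ext ?_⟩
    rw [hht, hx]
    exact hxe
  exact ⟨th, hth, fun u => this ▸ hht u⟩

/-- Products of commuting generators: realised and commuting. -/
theorem realised_words {Q : Subgroup (Equiv.Perm (Fin n))} {a : Equiv.Perm (Fin n)}
    {tl : List (Nat → Nat)}
    (h : ∀ t ∈ tl, ∃ p ∈ Q, (∀ u : Fin n, ((p u : Fin n) : Nat) = t u) ∧ p * a = a * p)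
    (w : List Nat) :
    ∃ p ∈ Q, (∀ u : Fin n, ((p u : Fin n) : Nat) = trace (w.map (getT tl)) u) ∧ p * a = a * p := by
  induction w with
  | nil => exact ⟨1, one_mem _, fun u => rfl, by rw [one_mul, mul_one]⟩
  | cons i w ih =>
    obtain ⟨p, hp, hpe, hpc⟩ := ih
    obtain ⟨q, hq, hqe, hqc⟩ : ∃ q ∈ Q, (∀ u : Fin n, ((q u : Fin n) : Nat) = getT tl i u) ∧
        q * a = a * q := by
      by_cases hi : i < tl.length
      · rw [getT, List.getD_eq_getElem _ _ hi]; exact h _ (List.getElem_mem hi)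
      · rw [getT, List.getD_eq_default _ _ (Nat.le_of_not_lt hi)]
        exact ⟨1, one_mem _, fun u => rfl, by rw [one_mul, mul_one]⟩
    refine ⟨p * q, mul_mem hp hq, fun u => ?_, ?_⟩
    · rw [Equiv.Perm.mul_apply, hpe, hqe, List.map_cons, trace_cons]
    · rw [mul_assoc, hqc, ← mul_assoc, hpc, mul_assoc]

end CfsgLib.SporadicOut
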