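import Cfsg.Agent.Lib.SporadicOut.HeData

/-! Kernel checks of the labels for the automorphisms of the Held group. -/

set_option autoImplicit false
set_option maxRecDepth 20000
set_option linter.all false
set_option Elab.async false

namespace CfsgLib.SporadicOut.He

open CfsgLib.SporRecognition.CosetCert

theorem down_ok_c0 : allPow 2058 (fun x => Nat.beq (downX stp par 17 x) 0) 10 0 = true := by decide +kernel

theorem down_ok_c1 : allPow 2058 (fun x => Nat.beq (downX stp par 17 x) 0) 10 1024 = true := by decide +kernel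

theorem down_ok_c2 : allPow 2058 (fun x => Nat.beq (downX stp par 17 x) 0) 10 2048 = true := by decide +kernel

theorem down_ok : allBelow 12 2058 (fun x => Nat.beq (downX stp par 17 x) 0) = true :=
  allBelow_of_upto (hi := 3072)
    (Upto.trans (mid := 1024) ((Upto.of_pow down_ok_c0 (Nat.le_refl _)) : Upto _ _ 0 (0 + 2 ^ 10))
    (Upto.trans (mid := 2048) ((Upto.of_pow down_ok_c1 (Nat.le_refl _)) : Upto _ _ 1024 (1024 + 2 ^ 10))
    ((Upto.of_pow down_ok_c2 (Nat.le_refl _)) : Upto _ _ 2048 (2048 + 2 ^ 10))))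
    (by decide) (by decide)

theorem keyA_all_c0 : allPow 2058 (keyStep lbl sepA keyA) 10 0 = true := by decide +kernel

theorem keyA_all_c1 : allPow 2058 (keyStep lbl sepA keyA) 10 1024 = true := by decide +kernel

theorem keyA_all_c2 : allPow 2058 (keyStep lbl sepA keyA) 10 2048 = true := by decide +kernel

theorem keyA_all : allBelow 12 2058 (keyStep lbl sepA keyA) = true :=
  allBelow_of_upto (hi := 3072)
    (Upto.trans (mid := 1024) ((Upto.of_pow keyA_all_c0 (Nat.le_refl _)) : Upto _ _ 0 (0 + 2 ^ 10))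
    (Upto.trans (mid := 2048) ((Upto.of_pow keyA_all_c1 (Nat.le_refl _)) : Upto _ _ 1024 (1024 + 2 ^ 10))
    ((Upto.of_pow keyA_all_c2 (Nat.le_refl _)) : Upto _ _ 2048 (2048 + 2 ^ 10))))
    (by decide) (by decide)

theorem keyA_ok : ∀ u, u < 2058 → keyStep lbl sepA keyA u = true := allBelow_spec keyA_all

theorem sepA_ok_c0 : allPow 2058 (sepStep keyA ordA posA 2058) 10 0 = true := by decide +kernel

theorem sepA_ok_c1 : allPow 2058 (sepStep keyA ordA posA 2058) 10 1024 = true := by decide +kernel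

theorem sepA_ok_c2 : allPow 2058 (sepStep keyA ordA posA 2058) 10 2048 = true := by decide +kernel

theorem sepA_ok : allBelow 12 2058 (sepStep keyA ordA posA 2058) = true :=
  allBelow_of_upto (hi := 3072)
    (Upto.trans (mid := 1024) ((Upto.of_pow sepA_ok_c0 (Nat.le_refl _)) : Upto _ _ 0 (0 + 2 ^ 10))
    (Upto.trans (mid := 2048) ((Upto.of_pow sepA_ok_c1 (Nat.le_refl _)) : Upto _ _ 1024 (1024 + 2 ^ 10))
    ((Upto.of_pow sepA_ok_c2 (Nat.le_refl _)) : Upto _ _ 2048 (2048 + 2 ^ 10))))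
    (by decide) (by decide)

theorem keyB_all_c0 : allPow 2058 (keyStep lbl sepB keyB) 10 0 = true := by decide +kernel

theorem keyB_all_c1 : allPow 2058 (keyStep lbl sepB keyB) 10 1024 = true := by decide +kernel

theorem keyB_all_c2 : allPow 2058 (keyStep lbl sepB keyB) 10 2048 = true := by decide +kernel

theorem keyB_all : allBelow 12 2058 (keyStep lbl sepB keyB) = true :=
  allBelow_of_upto (hi := 3072)
    (Upto.trans (mid := 1024) ((Upto.of_pow keyB_all_c0 (Nat.le_refl _)) : Upto _ _ 0 (0 + 2 ^ 10))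
    (Upto.trans (mid := 2048) ((Upto.of_pow keyB_all_c1 (Nat.le_refl _)) : Upto _ _ 1024 (1024 + 2 ^ 10))
    ((Upto.of_pow keyB_all_c2 (Nat.le_refl _)) : Upto _ _ 2048 (2048 + 2 ^ 10))))
    (by decide) (by decide)

theorem keyB_ok : ∀ u, u < 2058 → keyStep lbl sepB keyB u = true := allBelow_spec keyB_all

theorem sepB_ok_c0 : allPow 2058 (sepStep keyB ordB posB 2058) 10 0 = true := by decide +kernel

theorem sepB_ok_c1 : allPow 2058 (sepStep keyB ordB posB 2058) 10 1024 = true := by decide +kernel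

theorem sepB_ok_c2 : allPow 2058 (sepStep keyB ordB posB 2058) 10 2048 = true := by decide +kernel

theorem sepB_ok : allBelow 12 2058 (sepStep keyB ordB posB 2058) = true :=
  allBelow_of_upto (hi := 3072)
    (Upto.trans (mid := 1024) ((Upto.of_pow sepB_ok_c0 (Nat.le_refl _)) : Upto _ _ 0 (0 + 2 ^ 10))
    (Upto.trans (mid := 2048) ((Upto.of_pow sepB_ok_c1 (Nat.le_refl _)) : Upto _ _ 1024 (1024 + 2 ^ 10))
    ((Upto.of_pow sepB_ok_c2 (Nat.le_refl _)) : Upto _ _ 2048 (2048 + 2 ^ 10))))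
    (by decide) (by decide)

def stageA_1 : List (List Nat) := [[1564]]

theorem nodeA_0_0 : nodeChk 12 2058 lbl tA tA [] (1564, 1) stageA_1 [] = true := by decide +kernel

theorem nodeA_1_0 : nodeChk 12 2058 lbl tA tA [(1564, 1)] (22, 17) leavesA [1564] = true := by decide +kernel

theorem searchA : Staged 12 2058 lbl tA tA [] [[]] qsA leavesA := .next (by decide) (List.forall_mem_cons.mpr ⟨nodeA_0_0, (fun _ h => absurd h List.not_mem_nil)⟩) (.next (by decide) (List.forall_mem_cons.mpr ⟨nodeA_1_0, (fun _ h => absurd h List.not_mem_nil)⟩) (.done))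

def stageA3_1 : List (List Nat) := [[1564]]

theorem nodeA3_0_0 : nodeChk 12 2058 lbl tA tA3 [] (1564, 1) stageA3_1 [] = true := by decide +kernel

theorem nodeA3_1_0 : nodeChk 12 2058 lbl tA tA3 [(1564, 1)] (7, 17) [] [1564] = true := by decide +kernel

theorem searchA3 : Staged 12 2058 lbl tA tA3 [] [[]] qsA3 [] := .next (by decide) (List.forall_mem_cons.mpr ⟨nodeA3_0_0, (fun _ h => absurd h List.not_mem_nil)⟩) (.next (by decide) (List.forall_mem_cons.mpr ⟨nodeA3_1_0, (fun _ h => absurd h List.not_mem_nil)⟩) (.done))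

def stageB_1 : List (List Nat) := [[89], [92], [174], [189], [601], [622], [638], [657], [711], [763], [784], [817], [902], [930], [979], [1040], [1093], [1148], [1187], [1219], [1232], [1306], [1354], [1410], [1415], [1428], [1607], [1827], [1910], [1936], [1988], [2016]]

theorem nodeB_0_0 : nodeChk 12 2058 lbl tB tB [] (92, 8) stageB_1 [] = true := by decide +kernel

theorem nodeB_1_0 : nodeChk 12 2058 lbl tB tB [(92, 8)] (262, 8) leavesB [89] = true := by decide +kernel

theorem nodeB_1_1 : nodeChk 12 2058 lbl tB tB [(92, 8)] (262, 8) leavesB [92] = true := by decide +kernel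

theorem nodeB_1_2 : nodeChk 12 2058 lbl tB tB [(92, 8)] (262, 8) leavesB [174] = true := by decide +kernel

theorem nodeB_1_3 : nodeChk 12 2058 lbl tB tB [(92, 8)] (262, 8) leavesB [189] = true := by decide +kernel

theorem nodeB_1_4 : nodeChk 12 2058 lbl tB tB [(92, 8)] (262, 8) leavesB [601] = true := by decide +kernel

theorem nodeB_1_5 : nodeChk 12 2058 lbl tB tB [(92, 8)] (262, 8) leavesB [622] = true := by decide +kernel

theorem nodeB_1_6 : nodeChk 12 2058 lbl tB tB [(92, 8)] (262, 8) leavesB [638] = true := by decide +kernel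

theorem nodeB_1_7 : nodeChk 12 2058 lbl tB tB [(92, 8)] (262, 8) leavesB [657] = true := by decide +kernel

theorem nodeB_1_8 : nodeChk 12 2058 lbl tB tB [(92, 8)] (262, 8) leavesB [711] = true := by decide +kernel

theorem nodeB_1_9 : nodeChk 12 2058 lbl tB tB [(92, 8)] (262, 8) leavesB [763] = true := by decide +kernel

theorem nodeB_1_10 : nodeChk 12 2058 lbl tB tB [(92, 8)] (262, 8) leavesB [784] = true := by decide +kernel

theorem nodeB_1_11 : nodeChk 12 2058 lbl tB tB [(92, 8)] (262, 8) leavesB [817] = true := by decide +kernel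

theorem nodeB_1_12 : nodeChk 12 2058 lbl tB tB [(92, 8)] (262, 8) leavesB [902] = true := by decide +kernel

theorem nodeB_1_13 : nodeChk 12 2058 lbl tB tB [(92, 8)] (262, 8) leavesB [930] = true := by decide +kernel

theorem nodeB_1_14 : nodeChk 12 2058 lbl tB tB [(92, 8)] (262, 8) leavesB [979] = true := by decide +kernel

theorem nodeB_1_15 : nodeChk 12 2058 lbl tB tB [(92, 8)] (262, 8) leavesB [1040] = true := by decide +kernel

theorem nodeB_1_16 : nodeChk 12 2058 lbl tB tB [(92, 8)] (262, 8) leavesB [1093] = true := by decide +kernel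

theorem nodeB_1_17 : nodeChk 12 2058 lbl tB tB [(92, 8)] (262, 8) leavesB [1148] = true := by decide +kernel

theorem nodeB_1_18 : nodeChk 12 2058 lbl tB tB [(92, 8)] (262, 8) leavesB [1187] = true := by decide +kernel

theorem nodeB_1_19 : nodeChk 12 2058 lbl tB tB [(92, 8)] (262, 8) leavesB [1219] = true := by decide +kernel

theorem nodeB_1_20 : nodeChk 12 2058 lbl tB tB [(92, 8)] (262, 8) leavesB [1232] = true := by decide +kernel

theorem nodeB_1_21 : nodeChk 12 2058 lbl tB tB [(92, 8)] (262, 8) leavesB [1306] = true := by decide +kernel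

theorem nodeB_1_22 : nodeChk 12 2058 lbl tB tB [(92, 8)] (262, 8) leavesB [1354] = true := by decide +kernel

theorem nodeB_1_23 : nodeChk 12 2058 lbl tB tB [(92, 8)] (262, 8) leavesB [1410] = true := by decide +kernel

theorem nodeB_1_24 : nodeChk 12 2058 lbl tB tB [(92, 8)] (262, 8) leavesB [1415] = true := by decide +kernel

theorem nodeB_1_25 : nodeChk 12 2058 lbl tB tB [(92, 8)] (262, 8) leavesB [1428] = true := by decide +kernel

theorem nodeB_1_26 : nodeChk 12 2058 lbl tB tB [(92, 8)] (262, 8) leavesB [1607] = true := by decide +kernel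

theorem nodeB_1_27 : nodeChk 12 2058 lbl tB tB [(92, 8)] (262, 8) leavesB [1827] = true := by decide +kernel

theorem nodeB_1_28 : nodeChk 12 2058 lbl tB tB [(92, 8)] (262, 8) leavesB [1910] = true := by decide +kernel

theorem nodeB_1_29 : nodeChk 12 2058 lbl tB tB [(92, 8)] (262, 8) leavesB [1936] = true := by decide +kernel

theorem nodeB_1_30 : nodeChk 12 2058 lbl tB tB [(92, 8)] (262, 8) leavesB [1988] = true := by decide +kernel

theorem nodeB_1_31 : nodeChk 12 2058 lbl tB tB [(92, 8)] (262, 8) leavesB [2016] = true := by decide +kernel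

theorem searchB : Staged 12 2058 lbl tB tB [] [[]] qsB leavesB := .next (by decide) (List.forall_mem_cons.mpr ⟨nodeB_0_0, (fun _ h => absurd h List.not_mem_nil)⟩) (.next (by decide) (List.forall_mem_cons.mpr ⟨nodeB_1_0, List.forall_mem_cons.mpr ⟨nodeB_1_1, List.forall_mem_cons.mpr ⟨nodeB_1_2, List.forall_mem_cons.mpr ⟨nodeB_1_3, List.forall_mem_cons.mpr ⟨nodeB_1_4, List.forall_mem_cons.mpr ⟨nodeB_1_5, List.forall_mem_cons.mpr ⟨nodeB_1_6, List.forall_mem_cons.mpr ⟨nodeB_1_7, List.forall_mem_cons.mpr ⟨nodeB_1_8, List.forall_mem_cons.mpr ⟨nodeB_1_9, List.forall_mem_cons.mpr ⟨nodeB_1_10, List.forall_mem_cons.mpr ⟨nodeB_1_11, List.forall_mem_cons.mpr ⟨nodeB_1_12, List.forall_mem_cons.mpr ⟨nodeB_1_13, List.forall_mem_cons.mpr ⟨nodeB_1_14, List.forall_mem_cons.mpr ⟨nodeB_1_15, List.forall_mem_cons.mpr ⟨nodeB_1_16, List.forall_mem_cons.mpr ⟨nodeB_1_17, List.forall_mem_cons.mpr ⟨nodeB_1_18, List.forall_mem_cons.mpr ⟨nodeB_1_19, List.forall_mem_cons.mpr ⟨nodeB_1_20, List.forall_mem_cons.mpr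 ⟨nodeB_1_21, List.forall_mem_cons.mpr ⟨nodeB_1_22, List.forall_mem_cons.mpr ⟨nodeB_1_23, List.forall_mem_cons.mpr ⟨nodeB_1_24, List.forall_mem_cons.mpr ⟨nodeB_1_25, List.forall_mem_cons.mpr ⟨nodeB_1_26, List.forall_mem_cons.mpr ⟨nodeB_1_27, List.forall_mem_cons.mpr ⟨nodeB_1_28, List.forall_mem_cons.mpr ⟨nodeB_1_29, List.forall_mem_cons.mpr ⟨nodeB_1_30, List.forall_mem_cons.mpr ⟨nodeB_1_31, (fun _ h => absurd h List.not_mem_nil)⟩⟩⟩⟩⟩⟩⟩⟩⟩⟩⟩⟩⟩⟩⟩⟩⟩⟩⟩⟩⟩⟩⟩⟩⟩⟩⟩⟩⟩⟩⟩⟩) (.done))

theorem coverA : coverChk tA qsA sepA = true := by decide +kernel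

theorem coverB : coverChk tB qsB sepB = true := by decide +kernel

end CfsgLib.SporadicOut.He
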