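import Cfsg.Agent.Lib.SporadicOut.HeData

/-! Kernel checks of the relators for the automorphisms of the Held group. -/

set_option autoImplicit false
set_option maxRecDepth 20000
set_option linter.all false
set_option Elab.async false

namespace CfsgLib.SporadicOut.He

open CfsgLib.SporRecognition.CosetCert

theorem img_rel : (CfsgLib.SporRecognition.Cert.He2058.relW.all fun w => allBelow 12 2058 (fixStep (wordTabs
    (fun a _ => match a with
      | Cfsg.Spor.He.Gen.a => tS0 | .b => tS1 | .c => tS2 | .d => tS3 | .e => tS4 | .f => tS5 | .g => tS6)
    w))) = true := by decide +kernel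

end CfsgLib.SporadicOut.He
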