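import Cfsg.Agent.Lib.SporadicOut.HeData

/-! Kernel checks of the tables for the automorphisms of the Held group. -/

set_option autoImplicit false
set_option maxRecDepth 20000
set_option linter.all false
set_option Elab.async false

namespace CfsgLib.SporadicOut.He

open CfsgLib.SporRecognition.CosetCert

theorem leavesA_eq : leavesA = powA.map fun th => qsA.map fun q => th q.1 := by decide +kernel

theorem leavesB_eq : leavesB = centB.map fun th => qsB.map fun q => th q.1 := by decide +kernel

theorem tabABX : tabsChk 12 2058 tABX [tA, tB, tX] = true := by decide +kernel

theorem invA : allBelow 12 2058 (invStep tA tAi 2058) = true := by decide +kernel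

theorem invB : allBelow 12 2058 (invStep tB tBi 2058) = true := by decide +kernel

theorem invA3 : allBelow 12 2058 (invStep tA3 tA3i 2058) = true := by decide +kernel

theorem tabA3X2 : tabsChk 12 2058 tA3X2 [tA3, tX2] = true := by decide +kernel

theorem tabGen : tabsChk 12 2058 tGen gts = true := by decide +kernel

theorem tabImg : tabsChk 12 2058 tImg imgTs = true := by decide +kernel

theorem tabPow : tabsChk 12 2058 tPow powA = true := by decide +kernel

theorem tabCent : tabsChk 12 2058 tCent centB = true := by decide +kernel

theorem powA_comm : (powA.all fun t => allBelow 12 2058 fun u => Nat.beq (t (tA u)) (tA (t u))) = true := by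
  decide +kernel

theorem centB_comm : (centB.all fun t => allBelow 12 2058 fun u => Nat.beq (t (tB u)) (tB (t u))) = true := by
  decide +kernel

theorem a_pow : allBelow 12 2058 (fun u => Nat.beq (iter tA 17 u) u) = true := by decide +kernel

theorem b_conj : allBelow 12 2058 (fun u => Nat.beq (tB (tA u)) (tA (tA (tB u)))) = true := by decide +kernel

theorem x_conj : allBelow 12 2058 (fun u => Nat.beq (tX (tB u)) (tBi (tX u))) = true := by decide +kernel

theorem img_inv : (imgTs.all fun t => allBelow 12 2058 (invStep t t 2058)) = true := by decide +kernel

theorem img_ab : tabsChk 12 2058 tImgAB [tA3, tB] = true := by decide +kernel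

theorem rels_hold : tabsChk 12 2058 tRel (List.replicate 15 fun u => u) = true := by decide +kernel

theorem rels_break : ((List.range 15).all fun i =>
    !Nat.beq (trace (tBreak.getD i []) (rels.getD i ([], 0)).2) (rels.getD i ([], 0)).2) = true := by
  decide +kernel

end CfsgLib.SporadicOut.He
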