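import Cfsg.Agent.Lib.SporadicOut.SuzData
import Cfsg.Agent.Lib.SporadicOut.GraphAut

/-! Checks of the labels for the automorphisms of the sporadic Suzuki group on 1782 points. -/

set_option autoImplicit false
set_option maxRecDepth 20000
set_option linter.all false
set_option Elab.async false

namespace CfsgLib.SporadicOut.Suz

open CfsgLib.SporRecognition.CosetCert
open CfsgLib.SporRecognition.Cert.Suz1782 (T1 T2 T3 T4 T5 T6 T7 lab)

theorem down_ok_c0 : allPow 1782 (fun x => Nat.beq (downX stp par 20 x) 0) 10 0 = true := by decide +kernel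

theorem down_ok_c1 : allPow 1782 (fun x => Nat.beq (downX stp par 20 x) 0) 10 1024 = true := by decide +kernel

theorem down_ok : allBelow 11 1782 (fun x => Nat.beq (downX stp par 20 x) 0) = true :=
  allBelow_of_upto (hi := 2048)
    (Upto.trans (mid := 1024) ((Upto.of_pow down_ok_c0 (Nat.le_refl _)) : Upto _ _ 0 (0 + 2 ^ 10))
    ((Upto.of_pow down_ok_c1 (Nat.le_refl _)) : Upto _ _ 1024 (1024 + 2 ^ 10)))
    (by decide) (by decide)

theorem key1A_all_c0 : allPow 1782 (keyStep lbl fstA key1A) 10 0 = true := by decide +kernel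

theorem key1A_all_c1 : allPow 1782 (keyStep lbl fstA key1A) 10 1024 = true := by decide +kernel

theorem key1A_all : allBelow 11 1782 (keyStep lbl fstA key1A) = true :=
  allBelow_of_upto (hi := 2048)
    (Upto.trans (mid := 1024) ((Upto.of_pow key1A_all_c0 (Nat.le_refl _)) : Upto _ _ 0 (0 + 2 ^ 10))
    ((Upto.of_pow key1A_all_c1 (Nat.le_refl _)) : Upto _ _ 1024 (1024 + 2 ^ 10)))
    (by decide) (by decide)

theorem key1A_ok : ∀ u, u < 1782 → keyStep lbl fstA key1A u = true := allBelow_spec key1A_all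

theorem keyA_all_c0 : allPow 1782 (keyStep lbl sepA keyA) 10 0 = true := by decide +kernel

theorem keyA_all_c1 : allPow 1782 (keyStep lbl sepA keyA) 10 1024 = true := by decide +kernel

theorem keyA_all : allBelow 11 1782 (keyStep lbl sepA keyA) = true :=
  allBelow_of_upto (hi := 2048)
    (Upto.trans (mid := 1024) ((Upto.of_pow keyA_all_c0 (Nat.le_refl _)) : Upto _ _ 0 (0 + 2 ^ 10))
    ((Upto.of_pow keyA_all_c1 (Nat.le_refl _)) : Upto _ _ 1024 (1024 + 2 ^ 10)))
    (by decide) (by decide)

theorem keyA_ok : ∀ u, u < 1782 → keyStep lbl sepA keyA u = true := allBelow_spec keyA_all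

theorem sepA_ok_c0 : allPow 1782 (sepStep keyA ordA posA 1782) 10 0 = true := by decide +kernel

theorem sepA_ok_c1 : allPow 1782 (sepStep keyA ordA posA 1782) 10 1024 = true := by decide +kernel

theorem sepA_ok : allBelow 11 1782 (sepStep keyA ordA posA 1782) = true :=
  allBelow_of_upto (hi := 2048)
    (Upto.trans (mid := 1024) ((Upto.of_pow sepA_ok_c0 (Nat.le_refl _)) : Upto _ _ 0 (0 + 2 ^ 10))
    ((Upto.of_pow sepA_ok_c1 (Nat.le_refl _)) : Upto _ _ 1024 (1024 + 2 ^ 10)))
    (by decide) (by decide)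

theorem uniqA : CfsgLib.SporadicOut.uniqChk 11 1782 key1A sepA = true := by decide +kernel

theorem coverA : coverChk tA qsA fstA = true := by decide +kernel

theorem key1B_all_c0 : allPow 1782 (keyStep lbl fstB key1B) 10 0 = true := by decide +kernel

theorem key1B_all_c1 : allPow 1782 (keyStep lbl fstB key1B) 10 1024 = true := by decide +kernel

theorem key1B_all : allBelow 11 1782 (keyStep lbl fstB key1B) = true :=
  allBelow_of_upto (hi := 2048)
    (Upto.trans (mid := 1024) ((Upto.of_pow key1B_all_c0 (Nat.le_refl _)) : Upto _ _ 0 (0 + 2 ^ 10))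
    ((Upto.of_pow key1B_all_c1 (Nat.le_refl _)) : Upto _ _ 1024 (1024 + 2 ^ 10)))
    (by decide) (by decide)

theorem key1B_ok : ∀ u, u < 1782 → keyStep lbl fstB key1B u = true := allBelow_spec key1B_all

theorem keyB_all_c0 : allPow 1782 (keyStep lbl sepB keyB) 10 0 = true := by decide +kernel

theorem keyB_all_c1 : allPow 1782 (keyStep lbl sepB keyB) 10 1024 = true := by decide +kernel

theorem keyB_all : allBelow 11 1782 (keyStep lbl sepB keyB) = true :=
  allBelow_of_upto (hi := 2048)
    (Upto.trans (mid := 1024) ((Upto.of_pow keyB_all_c0 (Nat.le_refl _)) : Upto _ _ 0 (0 + 2 ^ 10))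
    ((Upto.of_pow keyB_all_c1 (Nat.le_refl _)) : Upto _ _ 1024 (1024 + 2 ^ 10)))
    (by decide) (by decide)

theorem keyB_ok : ∀ u, u < 1782 → keyStep lbl sepB keyB u = true := allBelow_spec keyB_all

theorem sepB_ok_c0 : allPow 1782 (sepStep keyB ordB posB 1782) 10 0 = true := by decide +kernel

theorem sepB_ok_c1 : allPow 1782 (sepStep keyB ordB posB 1782) 10 1024 = true := by decide +kernel

theorem sepB_ok : allBelow 11 1782 (sepStep keyB ordB posB 1782) = true :=
  allBelow_of_upto (hi := 2048)
    (Upto.trans (mid := 1024) ((Upto.of_pow sepB_ok_c0 (Nat.le_refl _)) : Upto _ _ 0 (0 + 2 ^ 10))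
    ((Upto.of_pow sepB_ok_c1 (Nat.le_refl _)) : Upto _ _ 1024 (1024 + 2 ^ 10)))
    (by decide) (by decide)

theorem uniqB : CfsgLib.SporadicOut.uniqChk 11 1782 key1B sepB = true := by decide +kernel

theorem coverB : coverChk tB qsB fstB = true := by decide +kernel


end CfsgLib.SporadicOut.Suz
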