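import Cfsg.Agent.Lib.SporadicOut.SuzData

/-! Checks of the first search for the automorphisms of the sporadic Suzuki group on 1782 points. -/

set_option autoImplicit false
set_option maxRecDepth 20000
set_option linter.all false
set_option Elab.async false

namespace CfsgLib.SporadicOut.Suz

open CfsgLib.SporRecognition.CosetCert
open CfsgLib.SporRecognition.Cert.Suz1782 (T1 T2 T3 T4 T5 T6 T7 lab)

def stageA1 : List (List Nat) := [[995]]

theorem nodeA_0_0 : nodeChk 11 1782 lbl tA tA [] (995, 1) stageA1 [] = true := by decide +kernel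

theorem nodeA_1_0 : nodeChk 11 1782 lbl tA tA [(995, 1)] (4, 13) leavesA [995] = true := by decide +kernel

theorem searchA : Staged 11 1782 lbl tA tA [] [[]] qsA leavesA := .next (by decide) (List.forall_mem_cons.mpr ⟨nodeA_0_0, (fun _ h => absurd h List.not_mem_nil)⟩) (.next (by decide) (List.forall_mem_cons.mpr ⟨nodeA_1_0, (fun _ h => absurd h List.not_mem_nil)⟩) (.done))

end CfsgLib.SporadicOut.Suz
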