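import Cfsg.Agent.Lib.SporadicOut.SuzData

/-! Checks of the second search for the automorphisms of the sporadic Suzuki group on 1782 points. -/

set_option autoImplicit false
set_option maxRecDepth 20000
set_option linter.all false
set_option Elab.async false

namespace CfsgLib.SporadicOut.Suz

open CfsgLib.SporRecognition.CosetCert
open CfsgLib.SporRecognition.Cert.Suz1782 (T1 T2 T3 T4 T5 T6 T7 lab)

def stageB1 : List (List Nat) := [[25], [96], [111], [119], [152], [209], [216], [242], [364], [447], [456], [497], [583], [676], [697], [728], [774], [787], [804], [810], [875], [939], [998], [1035], [1155], [1238], [1331], [1430], [1480], [1529], [1537], [1571], [1607], [1709], [1742], [1747]]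

theorem nodeB_0_0 : nodeChk 11 1782 lbl tB tB [] (96, 3) stageB1 [] = true := by decide +kernel

theorem nodeB_1_0 : nodeChk 11 1782 lbl tB tB [(96, 3)] (1, 6) leavesB [25] = true := by decide +kernel

theorem nodeB_1_1 : nodeChk 11 1782 lbl tB tB [(96, 3)] (1, 6) leavesB [96] = true := by decide +kernel

theorem nodeB_1_2 : nodeChk 11 1782 lbl tB tB [(96, 3)] (1, 6) leavesB [111] = true := by decide +kernel

theorem nodeB_1_3 : nodeChk 11 1782 lbl tB tB [(96, 3)] (1, 6) leavesB [119] = true := by decide +kernel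

theorem nodeB_1_4 : nodeChk 11 1782 lbl tB tB [(96, 3)] (1, 6) leavesB [152] = true := by decide +kernel

theorem nodeB_1_5 : nodeChk 11 1782 lbl tB tB [(96, 3)] (1, 6) leavesB [209] = true := by decide +kernel

theorem nodeB_1_6 : nodeChk 11 1782 lbl tB tB [(96, 3)] (1, 6) leavesB [216] = true := by decide +kernel

theorem nodeB_1_7 : nodeChk 11 1782 lbl tB tB [(96, 3)] (1, 6) leavesB [242] = true := by decide +kernel

theorem nodeB_1_8 : nodeChk 11 1782 lbl tB tB [(96, 3)] (1, 6) leavesB [364] = true := by decide +kernel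

theorem nodeB_1_9 : nodeChk 11 1782 lbl tB tB [(96, 3)] (1, 6) leavesB [447] = true := by decide +kernel

theorem nodeB_1_10 : nodeChk 11 1782 lbl tB tB [(96, 3)] (1, 6) leavesB [456] = true := by decide +kernel

theorem nodeB_1_11 : nodeChk 11 1782 lbl tB tB [(96, 3)] (1, 6) leavesB [497] = true := by decide +kernel

theorem nodeB_1_12 : nodeChk 11 1782 lbl tB tB [(96, 3)] (1, 6) leavesB [583] = true := by decide +kernel

theorem nodeB_1_13 : nodeChk 11 1782 lbl tB tB [(96, 3)] (1, 6) leavesB [676] = true := by decide +kernel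

theorem nodeB_1_14 : nodeChk 11 1782 lbl tB tB [(96, 3)] (1, 6) leavesB [697] = true := by decide +kernel

theorem nodeB_1_15 : nodeChk 11 1782 lbl tB tB [(96, 3)] (1, 6) leavesB [728] = true := by decide +kernel

theorem nodeB_1_16 : nodeChk 11 1782 lbl tB tB [(96, 3)] (1, 6) leavesB [774] = true := by decide +kernel

theorem nodeB_1_17 : nodeChk 11 1782 lbl tB tB [(96, 3)] (1, 6) leavesB [787] = true := by decide +kernel

theorem nodeB_1_18 : nodeChk 11 1782 lbl tB tB [(96, 3)] (1, 6) leavesB [804] = true := by decide +kernel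

theorem nodeB_1_19 : nodeChk 11 1782 lbl tB tB [(96, 3)] (1, 6) leavesB [810] = true := by decide +kernel

theorem nodeB_1_20 : nodeChk 11 1782 lbl tB tB [(96, 3)] (1, 6) leavesB [875] = true := by decide +kernel

theorem nodeB_1_21 : nodeChk 11 1782 lbl tB tB [(96, 3)] (1, 6) leavesB [939] = true := by decide +kernel

theorem nodeB_1_22 : nodeChk 11 1782 lbl tB tB [(96, 3)] (1, 6) leavesB [998] = true := by decide +kernel

theorem nodeB_1_23 : nodeChk 11 1782 lbl tB tB [(96, 3)] (1, 6) leavesB [1035] = true := by decide +kernel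

theorem nodeB_1_24 : nodeChk 11 1782 lbl tB tB [(96, 3)] (1, 6) leavesB [1155] = true := by decide +kernel

theorem nodeB_1_25 : nodeChk 11 1782 lbl tB tB [(96, 3)] (1, 6) leavesB [1238] = true := by decide +kernel

theorem nodeB_1_26 : nodeChk 11 1782 lbl tB tB [(96, 3)] (1, 6) leavesB [1331] = true := by decide +kernel

theorem nodeB_1_27 : nodeChk 11 1782 lbl tB tB [(96, 3)] (1, 6) leavesB [1430] = true := by decide +kernel

theorem nodeB_1_28 : nodeChk 11 1782 lbl tB tB [(96, 3)] (1, 6) leavesB [1480] = true := by decide +kernel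

theorem nodeB_1_29 : nodeChk 11 1782 lbl tB tB [(96, 3)] (1, 6) leavesB [1529] = true := by decide +kernel

theorem nodeB_1_30 : nodeChk 11 1782 lbl tB tB [(96, 3)] (1, 6) leavesB [1537] = true := by decide +kernel

theorem nodeB_1_31 : nodeChk 11 1782 lbl tB tB [(96, 3)] (1, 6) leavesB [1571] = true := by decide +kernel

theorem nodeB_1_32 : nodeChk 11 1782 lbl tB tB [(96, 3)] (1, 6) leavesB [1607] = true := by decide +kernel

theorem nodeB_1_33 : nodeChk 11 1782 lbl tB tB [(96, 3)] (1, 6) leavesB [1709] = true := by decide +kernel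

theorem nodeB_1_34 : nodeChk 11 1782 lbl tB tB [(96, 3)] (1, 6) leavesB [1742] = true := by decide +kernel

theorem nodeB_1_35 : nodeChk 11 1782 lbl tB tB [(96, 3)] (1, 6) leavesB [1747] = true := by decide +kernel

theorem searchB : Staged 11 1782 lbl tB tB [] [[]] qsB leavesB := .next (by decide) (List.forall_mem_cons.mpr ⟨nodeB_0_0, (fun _ h => absurd h List.not_mem_nil)⟩) (.next (by decide) (List.forall_mem_cons.mpr ⟨nodeB_1_0, List.forall_mem_cons.mpr ⟨nodeB_1_1, List.forall_mem_cons.mpr ⟨nodeB_1_2, List.forall_mem_cons.mpr ⟨nodeB_1_3, List.forall_mem_cons.mpr ⟨nodeB_1_4, List.forall_mem_cons.mpr ⟨nodeB_1_5, List.forall_mem_cons.mpr ⟨nodeB_1_6, List.forall_mem_cons.mpr ⟨nodeB_1_7, List.forall_mem_cons.mpr ⟨nodeB_1_8, List.forall_mem_cons.mpr ⟨nodeB_1_9, List.forall_mem_cons.mpr ⟨nodeB_1_10, List.forall_mem_cons.mpr ⟨nodeB_1_11, List.forall_mem_cons.mpr ⟨nodeB_1_12, List.forall_mem_cons.mpr ⟨nodeB_1_13, List.forall_mem_cons.mpr ⟨nodeB_1_14, List.forall_mem_cons.mpr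 ⟨nodeB_1_15, List.forall_mem_cons.mpr ⟨nodeB_1_16, List.forall_mem_cons.mpr ⟨nodeB_1_17, List.forall_mem_cons.mpr ⟨nodeB_1_18, List.forall_mem_cons.mpr ⟨nodeB_1_19, List.forall_mem_cons.mpr ⟨nodeB_1_20, List.forall_mem_cons.mpr ⟨nodeB_1_21, List.forall_mem_cons.mpr ⟨nodeB_1_22, List.forall_mem_cons.mpr ⟨nodeB_1_23, List.forall_mem_cons.mpr ⟨nodeB_1_24, List.forall_mem_cons.mpr ⟨nodeB_1_25, List.forall_mem_cons.mpr ⟨nodeB_1_26, List.forall_mem_cons.mpr ⟨nodeB_1_27, List.forall_mem_cons.mpr ⟨nodeB_1_28, List.forall_mem_cons.mpr ⟨nodeB_1_29, List.forall_mem_cons.mpr ⟨nodeB_1_30, List.forall_mem_cons.mpr ⟨nodeB_1_31, List.forall_mem_cons.mpr ⟨nodeB_1_32, List.forall_mem_cons.mpr ⟨nodeB_1_33, List.forall_mem_cons.mpr ⟨nodeB_1_34, List.forall_mem_cons.mpr ⟨nodeB_1_35, (fun _ h => absurd h List.not_mem_nil)⟩⟩⟩⟩⟩⟩⟩⟩⟩⟩⟩⟩⟩⟩⟩⟩⟩⟩⟩⟩⟩⟩⟩⟩⟩⟩⟩⟩⟩⟩⟩⟩⟩⟩⟩⟩) (.done))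

end CfsgLib.SporadicOut.Suz
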