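import Cfsg.Agent.Lib.SporadicOut.SuzData

/-! Checks of the relations for the automorphisms of the sporadic Suzuki group on 1782 points. -/

set_option autoImplicit false
set_option maxRecDepth 20000
set_option linter.all false
set_option Elab.async false

namespace CfsgLib.SporadicOut.Suz

open CfsgLib.SporRecognition.CosetCert
open CfsgLib.SporRecognition.Cert.Suz1782 (T1 T2 T3 T4 T5 T6 T7 lab)

theorem img_rel : (CfsgLib.SporRecognition.Cert.Suz1782.relW.all fun w => allBelow 11 1782 (fixStep (wordTabs
    (fun a _ => match a with
      | Cfsg.Spor.Suz.Gen.a => tS0 | .b => tS1 | .c => tS2 | .d => tS3 | .e => tS4 | .f => tS5 | .g => tS6)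
    w))) = true := by decide +kernel

theorem chain_ok : tabsChk 11 1782 tChain centB = true := by decide +kernel

theorem powA_comm : (powA.all fun t => allBelow 11 1782 fun u => Nat.beq (t (tA u)) (tA (t u))) = true := by decide +kernel

theorem centB_comm : (centB.all fun t => allBelow 11 1782 fun u => Nat.beq (t (tB u)) (tB (t u))) = true := by decide +kernel

theorem steps_le : ((List.range steps.length).all fun k => Nat.ble (steps.getD k (0, 0)).1 k) = true := by decide +kernel

theorem rels_break : ((List.range 143).all fun k => !Nat.beq
    (trace (wTabs [tA, tAi, tB, tBi, fun u => tX (getT centB (Nat.add k 1) u)] (relW.getD (brk.getD k (0, 0)).1 [])) (brk.getD k (0, 0)).2)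
    (brk.getD k (0, 0)).2) = true := by decide +kernel

theorem brk_lt : (brk.all fun p => Nat.blt p.2 1782 && Nat.blt p.1 5) = true := by decide +kernel


end CfsgLib.SporadicOut.Suz
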