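import Cfsg.Agent.Lib.SporadicOut.SuzData

/-! Checks of the tables for the automorphisms of the sporadic Suzuki group on 1782 points. -/

set_option autoImplicit false
set_option maxRecDepth 20000
set_option linter.all false
set_option Elab.async false

namespace CfsgLib.SporadicOut.Suz

open CfsgLib.SporRecognition.CosetCert
open CfsgLib.SporRecognition.Cert.Suz1782 (T1 T2 T3 T4 T5 T6 T7 lab)

theorem leavesA_eq : (leavesA == powA.map fun th => qsA.map fun q => th q.1) = true := by decide +kernel

theorem leavesB_eq : (leavesB == centB.map fun th => qsB.map fun q => th q.1) = true := by decide +kernel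

theorem tabABX : tabsChk 11 1782 tABX [tA, tB, tX] = true := by decide +kernel

theorem tabA2X2 : tabsChk 11 1782 tA2X2 [tA2, tX2] = true := by decide +kernel

theorem tabCg : tabsChk 11 1782 tCg [tG1, tG2] = true := by decide +kernel

theorem tabGen : tabsChk 11 1782 tGen gts = true := by decide +kernel

theorem tabImg : tabsChk 11 1782 tImg imgTs = true := by decide +kernel

theorem tabImgAB : tabsChk 11 1782 tImgAB [tA2, tB] = true := by decide +kernel

theorem tabPow : tabsChk 11 1782 tPow powA = true := by decide +kernel

theorem tabRel : tabsChk 11 1782 tRel (List.replicate 5 fun u => u) = true := by decide +kernel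

theorem invA : allBelow 11 1782 (invStep tA tAi 1782) = true := by decide +kernel

theorem invB : allBelow 11 1782 (invStep tB tBi 1782) = true := by decide +kernel

theorem invA2 : allBelow 11 1782 (invStep tA2 tA2i 1782) = true := by decide +kernel

theorem invO1 : allBelow 11 1782 (invStep tO1 tO1i 1782) = true := by decide +kernel

theorem invO1i : allBelow 11 1782 (invStep tO1i tO1 1782) = true := by decide +kernel

theorem invO0 : allBelow 11 1782 (invStep tO0 tO0 1782) = true := by decide +kernel

theorem a_pow : allBelow 11 1782 (fun u => Nat.beq (iter tA 13 u) u) = true := by decide +kernel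

theorem b_conj : allBelow 11 1782 (fun u => Nat.beq (tB (tA u)) (tA (tA (tA (tA (tB u)))))) = true := by decide +kernel

theorem x_conj : allBelow 11 1782 (fun u => Nat.beq (tX (tB u)) (tBi (tX u))) = true := by decide +kernel

theorem o_a : allBelow 11 1782 (fun u => Nat.beq (tO1 (tA u)) (tA2 (tO1 u))) = true := by decide +kernel

theorem o_b : allBelow 11 1782 (fun u => Nat.beq (tO1 (tB u)) (tB (tO1 u))) = true := by decide +kernel

theorem o_gen : ((List.range 7).all fun i => allBelow 11 1782 fun u => Nat.beq (tO1 (getT gts i u)) (getT imgTs i (tO1 u))) = true := by decide +kernel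

theorem o0_eq : allBelow 11 1782 (fun u => Nat.beq (tO0 u) (trace (tO1 :: tQ) u)) = true := by decide +kernel

theorem o0_lab : allBelow 11 1782 (fun u => Nat.beq (lab (tO0 u)) (lab u)) = true := by decide +kernel

theorem o0_zero : Nat.beq (tO0 0) 0 = true := by decide +kernel

theorem o0_fix : Nat.beq (countLab 11 1782 (fun u => bif Nat.beq (tO0 u) u then 1 else 0) 1) 100 = true := by decide +kernel

theorem img_inv : (imgTs.all fun t => allBelow 11 1782 (invStep t t 1782)) = true := by decide +kernel


end CfsgLib.SporadicOut.Suz
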